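import Groth.Agent.ASp.FieldStage
import Groth.Agent.ASp.Sheaf
/-!
The projection from an algebraic base change and descent of a quasi-affine neighbourhood of a fibre.
-/

set_option autoImplicit false
set_option linter.style.haveILetI false
set_option backward.isDefEq.respectTransparency false
set_option backward.isDefEq.respectTransparency.types false

universe u

open CategoryTheory CategoryTheory.Limits AlgebraicGeometry Opposite

noncomputable section

namespace Groth.Agent.GrpSpLib

open _root_.AlgSp Groth.Agent.ASp Groth.Agent.ASp.FieldDesc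

section Model

variable {S : Scheme.{u}} (U C : Over S)

/-- The product of two schemes over the base. -/
abbrev prodModel : Over S := Over.mk (pullback.fst U.hom C.hom ≫ U.hom)

/-- The first projection. -/
abbrev prodπ : prodModel U C ⟶ U := Over.homMk (pullback.fst U.hom C.hom) rfl

/-- The second projection. -/
abbrev prodw : prodModel U C ⟶ C := Over.homMk (pullback.snd U.hom C.hom) pullback.condition.symm

theorem isPullback_prodModel :
    IsPullback ((yon S).map (prodπ U C)) ((yon S).map (prodw U C))
      ((yon S).map (Over.homMk U.hom (Category.comp_id _) : U ⟶ Over.mk (𝟙 S)))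
      ((yon S).map (Over.homMk C.hom (Category.comp_id _) : C ⟶ Over.mk (𝟙 S))) :=
  isPullback_yon_map (IsPullback.of_map (Over.forget S) (Over.OverMorphism.ext pullback.condition)
    (IsPullback.of_hasPullback U.hom C.hom))

/-- The comparison with the product of the sheaves. -/
def prodIso : (yon S).obj (prodModel U C) ≅ (yon S).obj U ⨯ (yon S).obj C where
  hom := prod.lift ((yon S).map (prodπ U C)) ((yon S).map (prodw U C))
  inv := (isPullback_prodModel U C).lift prod.fst prod.snd (isTerminalYonBase.hom_ext _ _)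
  hom_inv_id := by
    apply (isPullback_prodModel U C).hom_ext <;> simp
  inv_hom_id := by
    apply prod.hom_ext <;> simp

theorem prodIso_hom_fst : (prodIso U C).hom ≫ prod.fst = (yon S).map (prodπ U C) := prod.lift_fst _ _

theorem prodIso_hom_snd : (prodIso U C).hom ≫ prod.snd = (yon S).map (prodw U C) := prod.lift_snd _ _

theorem points_map_prodIso_surjective : Function.Surjective (Points.map (prodIso U C).hom) := fun x =>
  ⟨Points.map (prodIso U C).inv x, by rw [← Points.map_comp, Iso.inv_hom_id, Points.map_id]⟩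

variable {U C} {X : Sp S} (p : (yon S).obj U ⟶ X)

variable (C) in
/-- The chart of `X ⨯ C` induced by a chart of `X`. -/
abbrev prodChart : (yon S).obj (prodModel U C) ⟶ X ⨯ (yon S).obj C :=
  (prodIso U C).hom ≫ prod.map p (𝟙 _)

theorem ofPt_prodChart_fst (m : ↥(prodModel U C).left) :
    Points.map (prod.fst : X ⨯ (yon S).obj C ⟶ X) (Points.ofPt (prodChart C p) m) =
      Points.ofPt p ((prodπ U C).left m) := by
  rw [← ofPt_yon_map_comp, ← prodIso_hom_fst, Category.assoc]
  simp only [prodChart, ofPt_comp_eq_map, Function.comp_apply, ← Points.map_comp, Category.assoc, prod.map_fst]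

theorem exists_ofPt_prodChart (x : Points (X ⨯ (yon S).obj C)) (u : ↥U.left)
    (h : Points.map (prod.fst : X ⨯ (yon S).obj C ⟶ X) x = Points.ofPt p u) :
    ∃ m : ↥(prodModel U C).left, Points.ofPt (prodChart C p) m = x ∧ (prodπ U C).left m = u := by
  obtain ⟨z, hz1, hz2⟩ := points_exists_of_isPullback (IsPullback.of_prod_fst_with_id p ((yon S).obj C))
    (Points.schemeHomeo U u) x (by
      rw [ofPt_comp_eq_map] at h
      exact h.symm)
  obtain ⟨z, rfl⟩ := points_map_prodIso_surjective U C z
  obtain ⟨m, rfl⟩ := (Points.schemeHomeo _).surjective z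
  refine ⟨m, ?_, ?_⟩
  · rw [ofPt_comp_eq_map, Function.comp_apply, prodChart, Points.map_comp]
    exact hz2
  · rw [← Points.map_comp, prodIso_hom_fst, Points.map_yon_map_apply] at hz1
    exact (Points.schemeHomeo U).injective hz1

end Model

variable {k K : Type u} [Field k] [Field K] [Algebra k K] {X : Sp (Spec (CommRingCat.of k))}

instance isIntegralHom_incl [Algebra.IsAlgebraic k K] :
    IsIntegralHom (Spec.map (CommRingCat.ofHom (algebraMap k K))) := by
  rw [IsIntegralHom.SpecMap_iff]
  exact algebraMap_isIntegral_iff.2 Algebra.IsAlgebraic.isIntegral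

/-- The projection from an algebraic base change is closed. -/
theorem isClosed_image_fst [Algebra.IsAlgebraic k K] (hX : IsAlgSpace X)
    {C : Set (Points (X ⨯ (yon (Spec (CommRingCat.of k))).obj (ext k K)))} (hC : IsClosed C) :
    IsClosed (Points.map (prod.fst : X ⨯ (yon _).obj (ext k K) ⟶ X) '' C) := by
  obtain ⟨U, p, hp, hps⟩ := hX.atlas
  haveI : IsIntegralHom (ext k K).hom := isIntegralHom_incl
  haveI : IsIntegralHom (prodπ U (ext k K)).left := inferInstanceAs (IsIntegralHom (pullback.fst _ _))
  have hcl : IsClosed ((prodπ U (ext k K)).left '' (Points.ofPt (prodChart (ext k K) p) ⁻¹' C)) :=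
    (prodπ U (ext k K)).left.isClosedMap _ (hC.preimage (Points.continuous_ofPt _))
  rw [← (isQuotientMap_ofPt hp hps).isClosed_preimage]
  convert hcl using 1
  ext u
  constructor
  · rintro ⟨t, ht, htu⟩
    obtain ⟨m, rfl, rfl⟩ := exists_ofPt_prodChart p t u htu
    exact ⟨m, ht, rfl⟩
  · rintro ⟨m, hm, rfl⟩
    exact ⟨_, hm, ofPt_prodChart_fst p m⟩

/-- A quasi-affine open of an algebraic base change containing a fibre gives a schematic neighbourhood. -/
theorem exists_scheme_nbhd [Algebra.IsAlgebraic k K] (hX : IsAlgSpace X) (y : Points X)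
    (Pa : Over (Spec (CommRingCat.of k))) [Pa.left.IsQuasiAffine]
    (ja : (yon _).obj Pa ⟶ X ⨯ (yon _).obj (ext k K)) (hja : RepWith @IsOpenImmersion ja)
    (hy : ∀ x, Points.map (prod.fst : X ⨯ (yon _).obj (ext k K) ⟶ X) x = y → x ∈ Set.range (Points.map ja)) :
    ∃ (P : Over (Spec (CommRingCat.of k))) (f : (yon _).obj P ⟶ X),
      RepWith @IsOpenImmersion f ∧ y ∈ Set.range (Points.map f) := by
  have hXK := FieldDesc.isAlgSpace_prod hX (ext k K)
  have hje : RepWith @Etale ja :=
    repWith_mono (fun _ _ m (hm : IsOpenImmersion m) => inferInstanceAs (Etale m)) hja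
  have hro : IsOpen (Set.range (Points.map ja)) := (isOpenMap_map_of_etale hje).isOpen_range
  obtain ⟨U, p, hp, hps⟩ := hX.atlas
  obtain ⟨u, rfl⟩ := surjective_ofPt hps y
  let V₀ : Set (Points X) := (Points.map (prod.fst : X ⨯ (yon _).obj (ext k K) ⟶ X) '' (Set.range (Points.map ja))ᶜ)ᶜ
  have hV₀ : IsOpen V₀ := (isClosed_image_fst hX hro.isClosed_compl).isOpen_compl
  obtain ⟨E, hE, huE, hEV⟩ := exists_isAffineOpen_mem_and_subset (X := U.left) (x := u)
    (U := ⟨Points.ofPt p ⁻¹' V₀, hV₀.preimage (Points.continuous_ofPt p)⟩)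
    (fun ⟨x, hx, hxy⟩ => hx (hy x hxy))
  let V : Set (Points X) := Points.ofPt p '' E
  have hV : IsOpen V := isOpenMap_ofPt_of_etale hp _ E.isOpen
  haveI : IsIntegralHom (ext k K).hom := isIntegralHom_incl
  haveI : IsAffineHom (prodπ U (ext k K)).left := inferInstanceAs (IsAffineHom (pullback.fst _ _))
  let A : Set (Points (X ⨯ (yon _).obj (ext k K))) :=
    Points.ofPt (prodChart (ext k K) p) '' ((prodπ U (ext k K)).left ⁻¹' E)
  have hA : Points.map (prod.fst : X ⨯ (yon _).obj (ext k K) ⟶ X) ⁻¹' V = A := by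
    ext x
    constructor
    · rintro ⟨a, ha, hax⟩
      obtain ⟨m, rfl, rfl⟩ := exists_ofPt_prodChart p x a hax.symm
      exact ⟨m, ha, rfl⟩
    · rintro ⟨m, hm, rfl⟩
      exact ⟨_, hm, (ofPt_prodChart_fst p m).symm⟩
  have hAc : IsCompact A :=
    (hE.preimage (prodπ U (ext k K)).left).isCompact.image (Points.continuous_ofPt _)
  have hAr : A ⊆ Set.range (Points.map ja) := by
    rintro _ ⟨m, hm, rfl⟩
    by_contra hn
    exact hEV hm ⟨_, hn, ofPt_prodChart_fst p m⟩
  -- the scheme model over `V`
  have hj := repWith_subι X V hV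
  have hjK : RepWith @IsOpenImmersion (prod.map (subι X V) (𝟙 ((yon _).obj (ext k K)))) :=
    repWith_of_isPullback (IsPullback.of_prod_fst_with_id (subι X V) ((yon _).obj (ext k K))) hj
  have sq := hjK.1.isPullback ja
  set Q := hjK.1.pullback ja
  set s := hjK.1.snd ja
  haveI : IsOpenImmersion s.left := hjK.2 _ _ _ sq
  have hr : Set.range s.left = Points.ofPt ja ⁻¹' A := by
    have h1 := preimage_ofPt_image sq Set.univ
    rw [Set.image_univ, Set.preimage_univ, Set.image_univ] at h1
    rw [← h1]
    congr 1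
    rw [← hA]
    ext x
    constructor
    · rintro ⟨z, rfl⟩
      refine (range_map_subι X V).le ⟨Points.map prod.fst z, ?_⟩
      rw [← Points.map_comp, ← prod.map_fst (subι X V) (𝟙 _), Points.map_comp]
    · intro hx
      obtain ⟨z, hz⟩ := (range_map_subι X V).ge hx
      obtain ⟨w, -, hw⟩ := points_exists_of_isPullback
        (IsPullback.of_prod_fst_with_id (subι X V) ((yon _).obj (ext k K))) z x hz
      exact ⟨w, hw⟩
  have hc : IsCompact (Set.range s.left) := by
    rw [hr]
    have he := isEmbedding_of_immersion hXK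
      (repWith_mono (fun _ _ g (hg : IsOpenImmersion g) => (inferInstance : IsImmersion g)) hja)
    rw [ofPt_comp_eq_map, Set.preimage_comp, (Points.schemeHomeo Pa).isCompact_preimage, he.1.isCompact_iff,
      Set.image_preimage_eq_inter_range, Set.inter_eq_left.2 hAr]
    exact hAc
  haveI : CompactSpace ↥s.left.opensRange.toScheme := isCompact_iff_compactSpace.mp hc
  haveI : CompactSpace ↥Q.left := s.left.isoOpensRange.inv.homeomorph.compactSpace
  haveI : Q.left.IsQuasiAffine := Scheme.IsQuasiAffine.of_isImmersion s.left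
  have hX₁ := isAlgSpace_subSp hX hV
  have hfst : RepWith @IsOpenImmersion (hjK.1.fst ja) := repWith_of_isPullback sq.flip hja
  haveI : Mono (hjK.1.fst ja) :=
    mono_of_repWith (P := @IsOpenImmersion) (fun g hg => haveI : IsOpenImmersion g := hg; inferInstance) hfst
  haveI : IsIso (hjK.1.fst ja) := isIso_of_mono_etale_surjective (IsAlgSpace.yon_obj _) (FieldDesc.isAlgSpace_prod hX₁ _) _
    (locP_of_repWith (repWith_mono (fun _ _ m (hm : IsOpenImmersion m) => inferInstanceAs (Etale m)) hfst))
    (fun x => by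
      have hx : Points.map (prod.map (subι X V) (𝟙 ((yon _).obj (ext k K)))) x ∈ A := by
        rw [← hA]
        refine (range_map_subι X V).le ⟨Points.map prod.fst x, ?_⟩
        rw [← Points.map_comp, ← prod.map_fst (subι X V) (𝟙 _), Points.map_comp]
      obtain ⟨a, ha⟩ := hAr hx
      obtain ⟨z, hz, -⟩ := points_exists_of_isPullback sq x a ha.symm
      exact ⟨z, hz⟩)
  have hrep : (subSp X V).obj.IsRepresentable := isRepresentable_of_opens (asIso (hjK.1.fst ja)) hX₁ fun x =>
    ⟨Set.univ, ⊤, isOpen_univ, trivial, by simp,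
      QAffLib.of_iso (Scheme.topIso Q.left).hom⟩
  obtain ⟨P, ⟨eP⟩⟩ := hrep
  refine ⟨P, (isoOfRepresentableBy eP).hom ≫ subι X V, repWith_comp (repWith_of_isIso _) hj, ?_⟩
  obtain ⟨z, hz⟩ := (range_map_subι X V).ge (show Points.ofPt p u ∈ V from ⟨u, huE, rfl⟩)
  exact ⟨Points.map (isoOfRepresentableBy eP).inv z, by rw [← Points.map_comp, Iso.inv_hom_id_assoc]; exact hz⟩

end Groth.Agent.GrpSpLib
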