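import Groth.Agent.QAffLib.Basic
import Groth.Agent.FlatLocus.ImageClosure
import Mathlib.AlgebraicGeometry.Morphisms.Separated
/-!
Compact sets of maximal points of separated schemes lie in quasi-affine opens.
-/

set_option autoImplicit false
set_option linter.style.haveILetI false
set_option backward.isDefEq.respectTransparency false

universe u

open CategoryTheory CategoryTheory.Limits AlgebraicGeometry TopologicalSpace

namespace Groth.Agent.GrpSpLib

variable {X : Scheme.{u}}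

/-- A maximal point outside a quasi-compact open has a neighbourhood disjoint from it. -/
theorem exists_disjoint_nbhd [X.IsSeparated] {z : ↥X} (hz : ∀ w, w ⤳ z → w = z) {O : X.Opens}
    (hO : IsCompact (O : Set ↥X)) (hzO : z ∉ O) :
    ∃ Q : X.Opens, z ∈ Q ∧ Disjoint (Q : Set ↥X) O := by
  haveI : CompactSpace O.toScheme := isCompact_iff_compactSpace.mp hO
  suffices h : z ∉ closure (O : Set ↥X) from
    ⟨⟨(closure (O : Set ↥X))ᶜ, isClosed_closure.isOpen_compl⟩, h, Set.disjoint_left.2 fun x hx hx' => hx (subset_closure hx')⟩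
  intro hcl
  haveI : QuasiSeparatedSpace ↥X := by
    haveI : IsSeparated (terminal.from X) := Scheme.IsSeparated.isSeparated_terminal_from
    exact quasiSeparatedSpace_of_quasiSeparated (terminal.from X)
  haveI : QuasiCompact O.ι := quasiCompact_of_compactSpace _
  obtain ⟨w, hw, hwz⟩ := FlatLocus.exists_specializes_of_mem_closure_image O.ι (Z := Set.univ) isClosed_univ (by
    rw [Set.image_univ, Scheme.Opens.range_ι]; exact hcl)
  exact hzO (hz _ hwz ▸ w.2)

/-- Disjoint quasi-affine opens have a quasi-affine union. -/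
theorem isQuasiAffine_sup_of_disjoint {V U : X.Opens} [hV : V.toScheme.IsQuasiAffine] [hU : U.toScheme.IsQuasiAffine]
    (hd : Disjoint (V : Set ↥X) U) : (V ⊔ U).toScheme.IsQuasiAffine := by
  classical
  let W := (V ⊔ U).toScheme
  let A : W.Opens := (V ⊔ U).ι ⁻¹ᵁ V
  let B : W.Opens := (V ⊔ U).ι ⁻¹ᵁ U
  haveI hqa : ∀ (C : X.Opens), C ≤ V ⊔ U → C.toScheme.IsQuasiAffine →
      ((V ⊔ U).ι ⁻¹ᵁ C).toScheme.IsQuasiAffine := fun C hC hC' => by
    haveI := hC'
    have h : (V ⊔ U).ι ''ᵁ ((V ⊔ U).ι ⁻¹ᵁ C) = C := by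
      rw [Scheme.Hom.image_preimage_eq_opensRange_inf, Scheme.Opens.opensRange_ι, inf_eq_right]
      exact hC
    haveI : ((V ⊔ U).ι ''ᵁ ((V ⊔ U).ι ⁻¹ᵁ C)).toScheme.IsQuasiAffine := by rw [h]; exact hC'
    exact QAffLib.of_iso ((V ⊔ U).ι.isoImage _).hom
  have hAB : A ⊓ B = ⊥ := by
    rw [← Scheme.Hom.preimage_inf]
    have : V ⊓ U = ⊥ := le_bot_iff.1 fun x hx => Set.disjoint_left.1 hd hx.1 hx.2
    rw [this]; rfl
  have hcov : A ⊔ B = ⊤ := top_le_iff.1 fun z _ => z.2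
  haveI : CompactSpace W := isCompact_iff_compactSpace.1 <| by
    rw [Opens.coe_sup]
    exact (isCompact_iff_compactSpace.2 hV.toCompactSpace).union (isCompact_iff_compactSpace.2 hU.toCompactSpace)
  have hglue : ∀ (s : Γ(W, A)) (t : Γ(W, B)), ∃ r : Γ(W, ⊤),
      W.presheaf.map (homOfLE le_top).op r = s ∧ W.presheaf.map (homOfLE le_top).op r = t := fun s t => by
    obtain ⟨r, hr, -⟩ := W.sheaf.existsUnique_gluing' (fun i : ULift.{u} Bool => bif i.down then A else B) ⊤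
      (fun _ => homOfLE le_top)
      (by
        rintro z -
        rcases (show z ∈ A ⊔ B by rw [hcov]; trivial) with h | h
        · exact Opens.mem_iSup.2 ⟨⟨true⟩, h⟩
        · exact Opens.mem_iSup.2 ⟨⟨false⟩, h⟩)
      (fun i => match i with | ⟨true⟩ => s | ⟨false⟩ => t)
      (by
        rintro ⟨i⟩ ⟨j⟩
        rcases eq_or_ne i j with rfl | hne
        · rfl
        · refine TopCat.Presheaf.section_ext W.sheaf _ _ _ fun z hz => ?_
          exfalso
          cases i <;> cases j <;> simp_all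
          first | exact hAB.le ⟨hz.2, hz.1⟩ | exact hAB.le hz)
    exact ⟨r, hr ⟨true⟩, hr ⟨false⟩⟩
  have hside : ∀ (C D : W.Opens) (r : Γ(W, ⊤)), C ⊔ D = ⊤ →
      W.presheaf.map (homOfLE le_top).op r = (1 : Γ(W, C)) → W.presheaf.map (homOfLE le_top).op r = (0 : Γ(W, D)) →
      W.basicOpen r = C := fun C D r hCD h1 h0 => by
    have e1 := W.basicOpen_res r (homOfLE (le_top : C ≤ ⊤)).op
    have e2 := W.basicOpen_res r (homOfLE (le_top : D ≤ ⊤)).op
    rw [h1, Scheme.basicOpen_of_isUnit _ isUnit_one] at e1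
    rw [h0, Scheme.basicOpen_zero] at e2
    have h3 : W.basicOpen r = (C ⊔ D) ⊓ W.basicOpen r := by rw [hCD, top_inf_eq]
    rw [h3, inf_sup_right, ← e1, ← e2, sup_bot_eq]
  refine QAffLib.of_forall_exists_mem_basicOpen_qa W fun z => ?_
  rcases (show z ∈ A ⊔ B by rw [hcov]; trivial) with h | h
  · obtain ⟨r, hrA, hrB⟩ := hglue 1 0
    refine ⟨r, ?_, ?_⟩
    · rw [hside A B r hcov hrA hrB]; exact hqa V le_sup_left hV
    · rw [hside A B r hcov hrA hrB]; exact h
  · obtain ⟨r, hrA, hrB⟩ := hglue 0 1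
    refine ⟨r, ?_, ?_⟩
    · rw [hside B A r (by rw [sup_comm, hcov]) hrB hrA]; exact hqa U le_sup_right hU
    · rw [hside B A r (by rw [sup_comm, hcov]) hrB hrA]; exact h

/-- A compact set of maximal points lies in a quasi-affine quasi-compact open inside any given
finite family of affine opens covering it. -/
theorem exists_qa_open_aux [X.IsSeparated] : ∀ (n : ℕ) (W : Fin n → X.Opens), (∀ i, IsAffineOpen (W i)) →
    ∀ (Z : Set ↥X), IsCompact Z → (∀ z ∈ Z, ∀ w, w ⤳ z → w = z) → (Z ⊆ ⋃ i, (W i : Set ↥X)) →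
    ∀ (Ω : X.Opens), Z ⊆ Ω → ∃ O : X.Opens, IsCompact (O : Set ↥X) ∧ O.toScheme.IsQuasiAffine ∧ O ≤ Ω ∧ Z ⊆ O := by
  intro n
  induction n with
  | zero =>
    intro W _ Z _ _ hZW Ω _
    refine ⟨⊥, isCompact_empty, ?_, bot_le, fun z hz => ?_⟩
    · haveI : IsAffine (⊥ : X.Opens).toScheme := isAffineOpen_bot X
      infer_instance
    · obtain ⟨i, -⟩ := Set.mem_iUnion.1 (hZW hz)
      exact i.elim0
  | succ n ih =>
    intro W hW Z hZc hmax hZW Ω hZΩ
    haveI : QuasiSeparatedSpace ↥X := by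
      haveI : IsSeparated (terminal.from X) := Scheme.IsSeparated.isSeparated_terminal_from
      exact quasiSeparatedSpace_of_quasiSeparated (terminal.from X)
    have hZ'c : IsCompact (Z \ (W 0 : Set ↥X)) := hZc.diff (W 0).isOpen
    -- a neighbourhood of the rest disjoint from the first member
    obtain ⟨Q, hQ, hQd⟩ : ∃ Q : X.Opens, Z \ (W 0 : Set ↥X) ⊆ Q ∧ Disjoint (Q : Set ↥X) (W 0) := by
      let Q : X.Opens := ⟨(closure (W 0 : Set ↥X))ᶜ, isClosed_closure.isOpen_compl⟩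
      refine ⟨Q, fun z hz hcl => ?_, Set.disjoint_left.2 fun x hx hx' => hx (subset_closure hx')⟩
      obtain ⟨N, hzN, hN⟩ := exists_disjoint_nbhd (hmax z hz.1) (hW 0).isCompact hz.2
      obtain ⟨x, hx⟩ := mem_closure_iff.1 hcl N N.isOpen hzN
      exact Set.disjoint_left.1 hN hx.1 hx.2
    obtain ⟨O', hO'c, hO'qa, hO'le, hO'Z⟩ := ih (fun i => W i.succ) (fun i => hW _) _ hZ'c
      (fun z hz => hmax z hz.1) (fun z hz => by
        obtain ⟨i, hi⟩ := Set.mem_iUnion.1 (hZW hz.1)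
        rcases Fin.eq_zero_or_eq_succ i with rfl | ⟨j, rfl⟩
        · exact (hz.2 hi).elim
        · exact Set.mem_iUnion.2 ⟨j, hi⟩) (Ω ⊓ Q) (fun z hz => ⟨hZΩ hz.1, hQ hz⟩)
    -- the part in the first member, inside Ω
    have hcl' : IsCompact (Z \ (O' : Set ↥X)) := hZc.diff O'.isOpen
    obtain ⟨K, hKc, hK1, hK2⟩ : ∃ K : X.Opens, IsCompact (K : Set ↥X) ∧ K ≤ W 0 ⊓ Ω ∧ Z \ (O' : Set ↥X) ⊆ K := by
      have hcov : ∀ z : ↥(Z \ (O' : Set ↥X)), ∃ V : X.Opens, IsAffineOpen V ∧ (z : ↥X) ∈ V ∧ V ≤ W 0 ⊓ Ω := fun z =>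
        exists_isAffineOpen_mem_and_subset (U := W 0 ⊓ Ω)
          ⟨by_contra fun h => z.2.2 (hO'Z ⟨z.2.1, h⟩), hZΩ z.2.1⟩
      choose V hV hzV hVle using hcov
      obtain ⟨t, ht⟩ := hcl'.elim_finite_subcover (fun z => (V z : Set ↥X)) (fun z => (V z).isOpen)
        (fun z hz => Set.mem_iUnion.2 ⟨⟨z, hz⟩, hzV _⟩)
      refine ⟨⨆ z ∈ t, V z, ?_, iSup₂_le fun z _ => hVle z, fun z hz => ?_⟩
      · simp only [TopologicalSpace.Opens.coe_iSup]
        exact t.isCompact_biUnion fun z _ => (hV z).isCompact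
      · have := ht hz
        simp only [Set.mem_iUnion] at this
        obtain ⟨w, hw, hzw⟩ := this
        simp only [SetLike.mem_coe, TopologicalSpace.Opens.mem_iSup]
        exact ⟨w, hw, hzw⟩
    have hdisj : Disjoint (O' : Set ↥X) (K : Set ↥X) := hQd.mono
      (show (O' : Set ↥X) ⊆ Q from fun x hx => (hO'le hx).2) (fun x hx => (hK1 hx).1)
    refine ⟨O' ⊔ K, hO'c.union hKc, ?_, sup_le (hO'le.trans inf_le_left) (hK1.trans inf_le_right), fun z hz => ?_⟩
    · haveI := hO'qa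
      haveI : IsAffine (W 0).toScheme := hW 0
      haveI : CompactSpace K.toScheme := isCompact_iff_compactSpace.mp hKc
      haveI : K.toScheme.IsQuasiAffine := Scheme.IsQuasiAffine.of_isImmersion (X.homOfLE (hK1.trans inf_le_left))
      exact isQuasiAffine_sup_of_disjoint hdisj
    · by_cases h : z ∈ O'
      · exact Or.inl h
      · exact Or.inr (hK2 ⟨hz, h⟩)

/-- A compact set of maximal points of a separated scheme lies in a quasi-affine quasi-compact open. -/
theorem exists_qa_open [X.IsSeparated] {Z : Set ↥X} (hZ : IsCompact Z) (hmax : ∀ z ∈ Z, ∀ w, w ⤳ z → w = z) :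
    ∃ O : X.Opens, IsCompact (O : Set ↥X) ∧ O.toScheme.IsQuasiAffine ∧ Z ⊆ O := by
  have hcov : ∀ z : ↥Z, ∃ V : X.Opens, IsAffineOpen V ∧ (z : ↥X) ∈ V := fun z => by
    obtain ⟨V, hV, hzV, -⟩ := exists_isAffineOpen_mem_and_subset (x := (z : ↥X)) (U := (⊤ : X.Opens)) trivial
    exact ⟨V, hV, hzV⟩
  choose V hV hzV using hcov
  obtain ⟨t, ht⟩ := hZ.elim_finite_subcover (fun z => (V z : Set ↥X)) (fun z => (V z).isOpen)
    (fun z hz => Set.mem_iUnion.2 ⟨⟨z, hz⟩, hzV _⟩)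
  obtain ⟨O, h1, h2, -, h3⟩ := exists_qa_open_aux t.card (fun i => V (t.equivFin.symm i)) (fun i => hV _) Z hZ hmax
    (fun z hz => by
      obtain ⟨w, hw, hzw⟩ := Set.mem_iUnion₂.1 (ht hz)
      exact Set.mem_iUnion.2 ⟨t.equivFin ⟨w, hw⟩, by simpa using hzw⟩) ⊤ (fun _ _ => trivial)
  exact ⟨O, h1, h2, h3⟩

end Groth.Agent.GrpSpLib
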