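import Groth.Agent.ASp.FieldStage
import Groth.Agent.ASp.LimQA
import Mathlib.RingTheory.FiniteType
/-!
A quasi-affine open after a big extension of the constants is defined over a finitely generated algebra.
-/

set_option autoImplicit false
set_option linter.style.haveILetI false
set_option backward.isDefEq.respectTransparency false
set_option backward.isDefEq.respectTransparency.types false
set_option maxHeartbeats 800000

universe u

open CategoryTheory CategoryTheory.Limits AlgebraicGeometry Opposite

noncomputable section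

namespace Groth.Agent.GrpSpLib

open _root_.AlgSp Groth.Agent.ASp Groth.Agent.ASp.FieldDesc

attribute [local instance] CategoryTheory.isConnected_of_hasTerminal

variable {k : Type u} [Field k] (kb K : Type u) [Field kb] [Algebra k kb] [Field K] [Algebra k K] [Algebra kb K]
  [IsScalarTower k kb K]

/-- The map of bases given by the inclusion of a subalgebra. -/
abbrev valMap (R : Subalgebra kb K) : ext k K ⟶ extR k R := extMap (R.val.restrictScalars k)

/-- A quasi-affine open of `X_K` is already given over a finitely generated `k̄`-subalgebra of `K`. -/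
theorem exists_qa_stage {X : Sp (Spec (CommRingCat.of k))} (hX : IsAlgSpace X) (hqc : IsQuasiCompactSp X)
    (hqs : IsQuasiSeparatedSp X) (O : Over (Spec (CommRingCat.of k))) [O.left.IsQuasiAffine]
    (j : (yon _).obj O ⟶ X ⨯ (yon _).obj (ext k K)) (hj : RepWith @IsOpenImmersion j) :
    ∃ (R : Subalgebra kb K), R.FG ∧ ∃ (P : Over (Spec (CommRingCat.of k)))
      (jR : (yon _).obj P ⟶ X ⨯ (yon _).obj (extR k R)) (q : O ⟶ P), P.left.IsQuasiAffine ∧
      RepWith @IsOpenImmersion jR ∧
      j ≫ prod.map (𝟙 X) ((yon _).map (valMap kb K R)) = (yon _).map q ≫ jR := by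
  let I := (PropPi1.FgIdx kb K)ᵒᵖ
  let E : I ⥤ Over (Spec (CommRingCat.of k)) :=
    { obj := fun i => extR k i.unop.1
      map := fun {i i'} φ => extMap ((Subalgebra.inclusion φ.unop.le).restrictScalars k)
      map_id := fun i => Over.OverMorphism.ext ((PropPi1.fgSys kb K).map_id i)
      map_comp := fun φ ψ => Over.OverMorphism.ext ((PropPi1.fgSys kb K).map_comp φ ψ) }
  let c : Cone E :=
    { pt := ext k K
      π :=
        { app := fun i => valMap kb K i.unop.1
          naturality := fun i i' φ => Over.OverMorphism.ext ((PropPi1.fgCone kb K).π.naturality φ) } }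
  haveI : IsConnected I := IsCofiltered.isConnected I
  haveI : ReflectsLimit E (Over.forget (Spec (CommRingCat.of k))) := inferInstance
  have hc : IsLimit c := isLimitOfReflects (Over.forget _) (PropPi1.isLimitFgCone kb K)
  haveI := yon_preservesLimit E
  let Φ : Sp (Spec (CommRingCat.of k)) ⥤ Sp (Spec (CommRingCat.of k)) := prod.functor.obj X
  let D : I ⥤ Sp (Spec (CommRingCat.of k)) := (E ⋙ yon _) ⋙ Φ
  let cD : Cone D := Φ.mapCone ((yon _).mapCone c)
  have hcD : IsLimit cD := (nonempty_isLimit_prodCone X (isLimitOfPreserves (yon _) hc)).some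
  have hD : ∀ i, IsAlgSpace (D.obj i) := fun i => FieldDesc.isAlgSpace_prod hX _
  have hDa : ∀ (i i' : I) (φ : i ⟶ i'), IsAffineMor (D.map φ) := fun i i' φ => by
    haveI : IsAffineHom (E.map φ).left := inferInstanceAs (IsAffineHom ((PropPi1.fgSys kb K).map φ))
    exact isAffineMor_of_repWith (fun _ hk => hk) (repWith_prod_map_affine X (E.map φ))
  have hq : ∀ i, IsQuasiCompactSp (D.obj i) ∧ IsQuasiSeparatedSp (D.obj i) := fun i =>
    qcqs_of_isAffineMor (hD i) hX (isAffineMor_fst (X := X) ↥i.unop.1) hqc hqs
  obtain ⟨i, P, jR, q, hP, hjR, e⟩ :=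
    exists_qa_open_member hD hDa (fun i => (hq i).1) (fun i => (hq i).2) cD hcD O j hj
  exact ⟨i.unop.1, i.unop.2, P, jR, q, hP, hjR, e⟩

end Groth.Agent.GrpSpLib
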