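import Groth.Agent.GeomIrred.Basic
import Mathlib
/-!
The generic points of `Spec (R ⊗ L)` over the points of `Spec (k̄ ⊗ L)`, and their specialisations.
-/

set_option autoImplicit false
set_option synthInstance.maxHeartbeats 400000
set_option maxHeartbeats 1000000
set_option linter.style.haveILetI false
set_option backward.isDefEq.respectTransparency false

universe u

open TensorProduct

noncomputable section

namespace Groth.Agent.GrpSpLib

variable (k kb R L : Type u) [Field k] [Field kb] [Algebra k kb] [Field L] [Algebra k L] [CommRing R]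
  [Algebra k R] [Algebra kb R] [IsScalarTower k kb R]

/-- The inclusion of `kb ⊗ L` in `R ⊗ L`. -/
def psi : kb ⊗[k] L →ₐ[kb] R ⊗[k] L :=
  Algebra.TensorProduct.map (Algebra.ofId kb R) (AlgHom.id k L)

variable {k kb L} in
/-- The map cutting out the generic point over `P`. -/
def theta (P : Ideal (kb ⊗[k] L)) : R ⊗[k] L →ₐ[kb] R ⊗[kb] ((kb ⊗[k] L) ⧸ P) :=
  Algebra.TensorProduct.lift Algebra.TensorProduct.includeLeft
    (((Algebra.TensorProduct.includeRight :
        ((kb ⊗[k] L) ⧸ P) →ₐ[kb] R ⊗[kb] ((kb ⊗[k] L) ⧸ P)).restrictScalars k).comp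
      (((Ideal.Quotient.mkₐ kb P).restrictScalars k).comp Algebra.TensorProduct.includeRight))
    fun _ _ => Commute.all (S := R ⊗[kb] ((kb ⊗[k] L) ⧸ P)) _ _

variable {k kb R L}

@[simp]
theorem theta_tmul (P : Ideal (kb ⊗[k] L)) (y : R) (l : L) :
    theta R P (y ⊗ₜ[k] l) = y ⊗ₜ[kb] Ideal.Quotient.mk P (1 ⊗ₜ[k] l) := by
  simp [theta, Algebra.TensorProduct.lift_tmul]

theorem theta_psi (P : Ideal (kb ⊗[k] L)) (x : kb ⊗[k] L) :
    theta R P (psi k kb R L x) = (1 : R) ⊗ₜ[kb] Ideal.Quotient.mk P x := by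
  induction x with
  | zero => simp
  | add a b ha hb => simp only [map_add, ha, hb, TensorProduct.tmul_add]
  | tmul c l =>
    simp only [psi, Algebra.TensorProduct.map_tmul, Algebra.ofId_apply, AlgHom.coe_id, id_eq, theta_tmul]
    rw [Algebra.algebraMap_eq_smul_one, TensorProduct.smul_tmul]
    congr 1
    rw [show c ⊗ₜ[k] l = c • ((1 : kb) ⊗ₜ[k] l) by rw [TensorProduct.smul_tmul', smul_eq_mul, mul_one]]
    exact (map_smul (Ideal.Quotient.mkₐ kb P) c _).symm

variable (R) in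
/-- Every element is a combination of the chosen basis with coefficients from `kb ⊗ L`. -/
theorem exists_expansion {ι : Type u} [DecidableEq ι] (b : Module.Basis ι kb R) (z : R ⊗[k] L) :
    ∃ r : ι →₀ kb ⊗[k] L, ∀ P : Ideal (kb ⊗[k] L),
      TensorProduct.equivFinsuppOfBasisLeft b (theta R P z) = r.mapRange (Ideal.Quotient.mk P) (map_zero _) := by
  induction z with
  | zero => exact ⟨0, fun P => by simp⟩
  | add x y hx hy =>
    obtain ⟨r, hr⟩ := hx
    obtain ⟨s, hs⟩ := hy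
    refine ⟨r + s, fun P => ?_⟩
    rw [map_add, map_add, hr, hs, Finsupp.mapRange_add (map_add _)]
  | tmul y l =>
    refine ⟨(b.repr y).mapRange (fun c => c ⊗ₜ[k] l) (TensorProduct.zero_tmul _ _), fun P => ?_⟩
    ext i
    rw [theta_tmul, TensorProduct.equivFinsuppOfBasisLeft_apply_tmul_apply, Finsupp.mapRange_apply,
      Finsupp.mapRange_apply]
    rw [show (b.repr y i) ⊗ₜ[k] l = (b.repr y i) • ((1 : kb) ⊗ₜ[k] l) by
      rw [TensorProduct.smul_tmul', smul_eq_mul, mul_one]]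
    exact (map_smul (Ideal.Quotient.mkₐ kb P) _ _).symm

variable (R) in
theorem isOpen_theta_ne_zero (z : R ⊗[k] L) :
    IsOpen {P : PrimeSpectrum (kb ⊗[k] L) | theta R P.asIdeal z ≠ 0} := by
  classical
  let b := Module.Free.chooseBasis kb R
  obtain ⟨r, hr⟩ := exists_expansion R b z
  have : {P : PrimeSpectrum (kb ⊗[k] L) | theta R P.asIdeal z ≠ 0} =
      ⋃ i, (PrimeSpectrum.basicOpen (r i) : Set (PrimeSpectrum (kb ⊗[k] L))) := by
    ext P
    simp only [Set.mem_setOf_eq, Set.mem_iUnion, SetLike.mem_coe, PrimeSpectrum.mem_basicOpen, ne_eq]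
    rw [← (TensorProduct.equivFinsuppOfBasisLeft b).map_eq_zero_iff, hr, Finsupp.ext_iff]
    simp [Ideal.Quotient.eq_zero_iff_mem]
  rw [this]
  exact isOpen_iUnion fun i => (PrimeSpectrum.basicOpen (r i)).2

theorem flat_quot (P : Ideal (kb ⊗[k] L)) : Module.Flat kb ((kb ⊗[k] L) ⧸ P) := by
  haveI : Module.Free kb ((kb ⊗[k] L) ⧸ P) := Module.Free.of_divisionRing _ _
  exact Module.Flat.of_free

variable [IsAlgClosed kb] [IsDomain R]

instance isDomain_target (P : Ideal (kb ⊗[k] L)) [P.IsPrime] : IsDomain (R ⊗[kb] ((kb ⊗[k] L) ⧸ P)) :=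
  GeomIrred.isDomain_tensor

variable (R) in
/-- The generic point over `P`. -/
def etaPt (P : PrimeSpectrum (kb ⊗[k] L)) : PrimeSpectrum (R ⊗[k] L) :=
  haveI := P.isPrime
  ⟨RingHom.ker (theta R P.asIdeal), RingHom.ker_isPrime _⟩

variable (R) in
theorem continuous_etaPt : Continuous (etaPt (k := k) (kb := kb) (L := L) R) := by
  rw [PrimeSpectrum.isTopologicalBasis_basic_opens.continuous_iff]
  rintro _ ⟨g, rfl⟩
  exact isOpen_theta_ne_zero R g

theorem eq_of_le [Algebra.IsAlgebraic k kb] {P Q : Ideal (kb ⊗[k] L)} [P.IsPrime] [Q.IsPrime] (h : Q ≤ P) :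
    Q = P := by
  letI : Algebra L (kb ⊗[k] L) := Algebra.TensorProduct.rightAlgebra
  haveI : Algebra.IsIntegral k kb := Algebra.IsAlgebraic.isIntegral
  haveI hint : Algebra.IsIntegral L (kb ⊗[k] L) := ⟨fun x => by
    induction x with
    | zero => exact isIntegral_zero
    | add a b ha hb => exact ha.add hb
    | tmul c l =>
      have h1 : IsIntegral L (c ⊗ₜ[k] (1 : L)) := by
        obtain ⟨p, hp, hpc⟩ := Algebra.IsIntegral.isIntegral (R := k) c
        refine ⟨p.map (algebraMap k L), hp.map _, ?_⟩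
        rw [Polynomial.eval₂_map]
        have : (algebraMap L (kb ⊗[k] L)).comp (algebraMap k L) = algebraMap k (kb ⊗[k] L) :=
          (Algebra.TensorProduct.includeRight : L →ₐ[k] kb ⊗[k] L).comp_algebraMap
        rw [this]
        have h2 := Polynomial.hom_eval₂ p (algebraMap k kb)
          ((Algebra.TensorProduct.includeLeft : kb →ₐ[k] kb ⊗[k] L)).toRingHom c
        rw [hpc, map_zero] at h2
        rw [h2]
        congr 1
      rw [show c ⊗ₜ[k] l = (c ⊗ₜ[k] (1 : L)) * ((1 : kb) ⊗ₜ[k] l) by simp]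
      exact h1.mul (isIntegral_algebraMap (R := L) (A := kb ⊗[k] L) (x := l))⟩
  haveI : (Q.comap (algebraMap L (kb ⊗[k] L))).IsMaximal := by
    rcases Ideal.eq_bot_or_top (Q.comap (algebraMap L (kb ⊗[k] L))) with h0 | h0
    · rw [h0]; exact Ideal.bot_isMaximal
    · exact ((inferInstance : (Q.comap (algebraMap L (kb ⊗[k] L))).IsPrime).ne_top h0).elim
  haveI : Q.IsMaximal := Ideal.isMaximal_of_isIntegral_of_isMaximal_comap (R := L) Q ‹_›
  exact Ideal.IsMaximal.eq_of_le ‹_› (Ideal.IsPrime.ne_top ‹_›) h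

theorem ker_theta_le (P : Ideal (kb ⊗[k] L)) : RingHom.ker (theta R P) ≤ P.map (psi k kb R L) := by
  let J := P.map (psi k kb R L)
  let f : (kb ⊗[k] L) ⧸ P →ₐ[kb] (R ⊗[k] L) ⧸ J :=
    Ideal.Quotient.liftₐ P ((Ideal.Quotient.mkₐ kb J).comp (psi k kb R L)) fun x hx => by
      rw [AlgHom.comp_apply, Ideal.Quotient.mkₐ_eq_mk, Ideal.Quotient.eq_zero_iff_mem]
      exact Ideal.mem_map_of_mem _ hx
  let inv : R ⊗[kb] ((kb ⊗[k] L) ⧸ P) →ₐ[kb] (R ⊗[k] L) ⧸ J :=
    Algebra.TensorProduct.productMap ((Ideal.Quotient.mkₐ kb J).comp Algebra.TensorProduct.includeLeft) f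
  have h : ∀ z, inv (theta R P z) = Ideal.Quotient.mk J z := by
    intro z
    induction z with
    | zero => simp
    | add a b ha hb => simp only [map_add, ha, hb]
    | tmul y l =>
      rw [theta_tmul]
      simp only [inv, Algebra.TensorProduct.productMap_apply_tmul, AlgHom.comp_apply, Ideal.Quotient.mkₐ_eq_mk]
      rw [show f (Ideal.Quotient.mk P ((1 : kb) ⊗ₜ[k] l)) = Ideal.Quotient.mk J (psi k kb R L (1 ⊗ₜ[k] l)) from rfl,
        ← map_mul]
      simp [psi]
  intro z hz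
  rw [RingHom.mem_ker] at hz
  rw [← Ideal.Quotient.eq_zero_iff_mem, ← h z, hz, map_zero]

/-- The generic point over `P` is minimal. -/
theorem etaPt_minimal [Algebra.IsAlgebraic k kb] (P : PrimeSpectrum (kb ⊗[k] L)) (Q : PrimeSpectrum (R ⊗[k] L))
    (h : Q.asIdeal ≤ (etaPt R P).asIdeal) : Q = etaPt R P := by
  haveI := P.isPrime
  haveI := Q.isPrime
  refine PrimeSpectrum.ext (le_antisymm h ?_)
  have hle : Q.asIdeal.comap (psi k kb R L) ≤ P.asIdeal := fun x hx => by
    have h1 : theta R P.asIdeal (psi k kb R L x) = 0 := h hx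
    rw [theta_psi] at h1
    haveI := flat_quot P.asIdeal
    have h2 : Ideal.Quotient.mk P.asIdeal x = 0 := by
      refine (Algebra.TensorProduct.includeRight_injective (R := kb) (A := R) (B := (kb ⊗[k] L) ⧸ P.asIdeal)
        (algebraMap kb R).injective) ?_
      rw [map_zero]
      exact h1
    exact Ideal.Quotient.eq_zero_iff_mem.1 h2
  have he := eq_of_le hle
  exact (ker_theta_le P.asIdeal).trans (Ideal.map_le_iff_le_comap.2 he.ge)

/-- Generic points are compatible with injective changes of the coefficient domain. -/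
theorem comap_etaPt {R' : Type u} [CommRing R'] [IsDomain R'] [Algebra k R'] [Algebra kb R'] [IsScalarTower k kb R']
    (f : R →ₐ[kb] R') (hf : Function.Injective f) (P : PrimeSpectrum (kb ⊗[k] L)) :
    (etaPt R' P).asIdeal.comap (Algebra.TensorProduct.map (f.restrictScalars k) (AlgHom.id k L)) =
      (etaPt R P).asIdeal := by
  have key : ∀ z, theta R' P.asIdeal (Algebra.TensorProduct.map (f.restrictScalars k) (AlgHom.id k L) z) =
      Algebra.TensorProduct.map f (AlgHom.id kb ((kb ⊗[k] L) ⧸ P.asIdeal)) (theta R P.asIdeal z) := by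
    intro z
    induction z with
    | zero => simp
    | add a b ha hb => simp only [map_add, ha, hb]
    | tmul y l => simp
  haveI := flat_quot P.asIdeal
  have hinj : Function.Injective (Algebra.TensorProduct.map f (AlgHom.id kb ((kb ⊗[k] L) ⧸ P.asIdeal))) :=
    Module.Flat.rTensor_preserves_injective_linearMap (M := (kb ⊗[k] L) ⧸ P.asIdeal) f.toLinearMap hf
  ext z
  simp only [Ideal.mem_comap, etaPt, RingHom.mem_ker]
  rw [key, map_eq_zero_iff _ hinj]

/-- Evaluation of the coefficients at a rational point. -/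
def evalAt (a : R →ₐ[kb] kb) (C : Type u) [CommRing C] [Algebra kb C] : R ⊗[kb] C →ₐ[kb] C :=
  Algebra.TensorProduct.lift ((Algebra.ofId kb C).comp a) (AlgHom.id kb C)
    fun _ _ => Commute.all (S := C) _ _

omit [IsAlgClosed kb] [IsDomain R] in
@[simp]
theorem evalAt_tmul (a : R →ₐ[kb] kb) {C : Type u} [CommRing C] [Algebra kb C] (y : R) (d : C) :
    evalAt a C (y ⊗ₜ[kb] d) = a y • d := by
  rw [evalAt, Algebra.TensorProduct.lift_tmul, AlgHom.comp_apply, Algebra.ofId_apply, AlgHom.id_apply,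
    ← Algebra.smul_def]

omit [IsAlgClosed kb] in
/-- A nonzero tensor stays nonzero at all rational points off a principal closed set. -/
theorem exists_coeff {C : Type u} [CommRing C] [Algebra kb C] (z : R ⊗[kb] C) :
    ∃ c : R, c ≠ 0 ∧ ∀ a : R →ₐ[kb] kb, a c ≠ 0 → z ≠ 0 → evalAt a C z ≠ 0 := by
  classical
  by_cases h0 : z = 0
  · exact ⟨1, one_ne_zero, fun a _ h => (h h0).elim⟩
  let b := Module.Free.chooseBasis kb C
  let E := TensorProduct.equivFinsuppOfBasisRight (M := R) b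
  obtain ⟨i, hi⟩ : ∃ i, E z i ≠ 0 := by
    by_contra hne
    push_neg at hne
    exact h0 (E.map_eq_zero_iff.1 (Finsupp.ext hne))
  refine ⟨E z i, hi, fun a ha _ hzero => ha ?_⟩
  have key : ∀ w : R ⊗[kb] C, b.repr (evalAt a C w) i = a (E w i) := by
    intro w
    induction w with
    | zero => simp
    | add p q hp hq => simp only [map_add, Finsupp.add_apply, hp, hq]
    | tmul y d =>
      rw [evalAt_tmul, map_smul, Finsupp.smul_apply, TensorProduct.equivFinsuppOfBasisRight_apply_tmul_apply,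
        map_smul, smul_eq_mul, smul_eq_mul, mul_comm]
  rw [← key, hzero, map_zero, Finsupp.zero_apply]

section change

variable {L₁ : Type u} [Field L₁] [Algebra k L₁] (v : L₁ →ₐ[k] L) (Q : PrimeSpectrum (kb ⊗[k] L))

/-- The prime below, for a smaller field. -/
def primeBelow : PrimeSpectrum (kb ⊗[k] L₁) :=
  PrimeSpectrum.comap (Algebra.TensorProduct.map (AlgHom.id kb kb) v).toRingHom Q

/-- The injective map of the residue algebras. -/
def quotMap : ((kb ⊗[k] L₁) ⧸ (primeBelow v Q).asIdeal) →ₐ[kb] ((kb ⊗[k] L) ⧸ Q.asIdeal) :=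
  Ideal.quotientMapₐ Q.asIdeal (Algebra.TensorProduct.map (AlgHom.id kb kb) v) le_rfl

omit [IsAlgClosed kb] in
theorem quotMap_injective : Function.Injective (quotMap v Q) := Ideal.quotientMap_injective

omit [IsAlgClosed kb] in
theorem quotMap_mk (x : kb ⊗[k] L₁) : quotMap v Q (Ideal.Quotient.mk _ x) =
    Ideal.Quotient.mk Q.asIdeal (Algebra.TensorProduct.map (AlgHom.id kb kb) v x) := rfl

omit [IsAlgClosed kb] [IsDomain R] in
theorem theta_map (w : R ⊗[k] L₁) :
    theta R Q.asIdeal (Algebra.TensorProduct.map (AlgHom.id k R) v w) =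
      Algebra.TensorProduct.map (AlgHom.id kb R) (quotMap v Q) (theta R (primeBelow v Q).asIdeal w) := by
  induction w with
  | zero => simp
  | add a b ha hb => simp only [map_add, ha, hb]
  | tmul y l => simp [quotMap_mk]

omit [IsAlgClosed kb] [IsDomain R] in
theorem quotMap_evalAt (a : R →ₐ[kb] kb) (w : R ⊗[k] L₁) :
    quotMap v Q (evalAt a _ (theta R (primeBelow v Q).asIdeal w)) =
      Ideal.Quotient.mk Q.asIdeal (Algebra.TensorProduct.map (a.restrictScalars k) (AlgHom.id k L)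
        (Algebra.TensorProduct.map (AlgHom.id k R) v w)) := by
  induction w with
  | zero => simp
  | add p q hp hq => simp only [map_add, hp, hq]
  | tmul y l =>
    simp only [theta_tmul, evalAt_tmul, map_smul, quotMap_mk, Algebra.TensorProduct.map_tmul, AlgHom.coe_id, id_eq,
      AlgHom.restrictScalars_apply]
    rw [show (a y) ⊗ₜ[k] (v l) = (a y) • ((1 : kb) ⊗ₜ[k] (v l)) by
      rw [TensorProduct.smul_tmul', smul_eq_mul, mul_one]]
    exact (map_smul (Ideal.Quotient.mkₐ kb Q.asIdeal) _ _).symm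

end change

/-- An open set containing all the generic points contains all the points over a suitable algebraic point. -/
theorem exists_specialisation [Algebra.IsAlgebraic k kb] [Algebra.FiniteType kb R]
    (U : TopologicalSpace.Opens (PrimeSpectrum (R ⊗[k] L))) (hU : ∀ P : PrimeSpectrum (kb ⊗[k] L), etaPt R P ∈ U) :
    ∃ a : R →ₐ[kb] kb, ∀ P : PrimeSpectrum (kb ⊗[k] L),
      PrimeSpectrum.comap
        (Algebra.TensorProduct.map (a.restrictScalars k) (AlgHom.id k L) : R ⊗[k] L →ₐ[k] kb ⊗[k] L).toRingHom P ∈ U := by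
  classical
  have hg : ∀ P : PrimeSpectrum (kb ⊗[k] L), ∃ g : R ⊗[k] L, theta R P.asIdeal g ≠ 0 ∧ (PrimeSpectrum.basicOpen g : Set (PrimeSpectrum (R ⊗[k] L))) ⊆ (U : Set (PrimeSpectrum (R ⊗[k] L))) := fun P => by
    obtain ⟨_, ⟨g, rfl⟩, hPg, hgU⟩ :=
      PrimeSpectrum.isTopologicalBasis_basic_opens.exists_subset_of_mem_open (hU P) U.2
    exact ⟨g, hPg, hgU⟩
  choose g hg0 hgU using hg
  obtain ⟨t, ht⟩ := isCompact_univ.elim_finite_subcover
    (fun P => {Q : PrimeSpectrum (kb ⊗[k] L) | theta R Q.asIdeal (g P) ≠ 0}) (fun P => isOpen_theta_ne_zero R _)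
    (fun Q _ => Set.mem_iUnion.2 ⟨Q, hg0 Q⟩)
  choose S hS using fun P => TensorProduct.exists_finset (g P)
  let M : Finset L := t.biUnion fun P => (S P).image Prod.snd
  let L₁ : IntermediateField k L := IntermediateField.adjoin k (M : Set L)
  haveI : Algebra.EssFiniteType k L₁ :=
    IntermediateField.essFiniteType_iff.2 (IntermediateField.fg_adjoin_finset M)
  have hmem : ∀ P ∈ t, ∀ p ∈ S P, p.2 ∈ L₁ := fun P hP p hp => IntermediateField.subset_adjoin k _ (by
    exact Finset.mem_biUnion.2 ⟨P, hP, Finset.mem_image_of_mem _ hp⟩)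
  have hlift : ∀ P : ↥t, ∃ g' : R ⊗[k] L₁,
      Algebra.TensorProduct.map (AlgHom.id k R) L₁.val g' = g P.1 := fun P => by
    refine ⟨∑ p ∈ (S P.1).attach, p.1.1 ⊗ₜ[k] (⟨p.1.2, hmem P.1 P.2 p.1 p.2⟩ : L₁), ?_⟩
    rw [map_sum]
    simp only [Algebra.TensorProduct.map_tmul, AlgHom.coe_id, id_eq]
    rw [hS P.1, ← Finset.sum_attach (S P.1)]
    rfl
  choose g' hg' using hlift
  haveI : IsNoetherianRing (kb ⊗[k] L₁) := Algebra.EssFiniteType.isNoetherianRing kb (kb ⊗[k] L₁)
  haveI : Finite (PrimeSpectrum (kb ⊗[k] L₁)) := by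
    have hmin : ∀ Q : PrimeSpectrum (kb ⊗[k] L₁), Q.asIdeal ∈ minimalPrimes (kb ⊗[k] L₁) := fun Q =>
      ⟨⟨Q.isPrime, bot_le⟩, fun J hJ hle => by haveI := hJ.1; haveI := Q.isPrime; exact (eq_of_le hle).ge⟩
    haveI : Finite (minimalPrimes (kb ⊗[k] L₁)) :=
      (minimalPrimes.finite_of_isNoetherianRing (kb ⊗[k] L₁)).to_subtype
    exact Finite.of_injective (fun Q => (⟨Q.asIdeal, hmin Q⟩ : minimalPrimes (kb ⊗[k] L₁)))
      fun Q Q' e => PrimeSpectrum.ext (congrArg Subtype.val e)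
  have hc : ∀ (x : ↥t × PrimeSpectrum (kb ⊗[k] L₁)), ∃ c : R, c ≠ 0 ∧ ∀ a : R →ₐ[kb] kb, a c ≠ 0 →
      theta R x.2.asIdeal (g' x.1) ≠ 0 → evalAt a _ (theta R x.2.asIdeal (g' x.1)) ≠ 0 := by
    intro x
    exact exists_coeff _
  choose c hc0 hc using hc
  haveI : Fintype (↥t × PrimeSpectrum (kb ⊗[k] L₁)) := Fintype.ofFinite _
  let h : R := ∏ x, c x
  have hh : h ≠ 0 := Finset.prod_ne_zero_iff.2 fun x _ => hc0 x
  obtain ⟨m, hm, hmh⟩ : ∃ m : Ideal R, m.IsMaximal ∧ h ∉ m := by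
    haveI : IsJacobsonRing R := isJacobsonRing_of_finiteType (A := kb)
    have h1 : h ∉ Ideal.jacobson (⊥ : Ideal R) := by
      rw [IsJacobsonRing.out ‹_› (Ideal.isRadical_bot_iff.2 inferInstance)]; exact hh
    simp only [Ideal.jacobson, Submodule.mem_sInf, Set.mem_setOf_eq, not_forall] at h1
    obtain ⟨m, ⟨-, hm⟩, hmh⟩ := h1
    exact ⟨m, hm, hmh⟩
  haveI := hm
  letI : Field (R ⧸ m) := Ideal.Quotient.field m
  haveI : Module.Finite kb (R ⧸ m) := finite_of_finite_type_of_isJacobsonRing kb _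
  haveI : Algebra.IsAlgebraic kb (R ⧸ m) := Algebra.IsAlgebraic.of_finite kb _
  let em : (R ⧸ m) →ₐ[kb] kb := IsAlgClosed.lift
  refine ⟨em.comp (Ideal.Quotient.mkₐ kb m), fun Q => ?_⟩
  obtain ⟨P, hPt, hQP⟩ := Set.mem_iUnion₂.1 (ht (Set.mem_univ Q))
  refine hgU P ?_
  rw [SetLike.mem_coe, PrimeSpectrum.mem_basicOpen, PrimeSpectrum.comap_asIdeal, Ideal.mem_comap]
  have hne : theta R (primeBelow L₁.val Q).asIdeal (g' ⟨P, hPt⟩) ≠ 0 := fun h0 => hQP (by
    rw [← hg' ⟨P, hPt⟩, theta_map L₁.val Q, h0, map_zero])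
  have hac : (em.comp (Ideal.Quotient.mkₐ kb m)) (c (⟨P, hPt⟩, primeBelow L₁.val Q)) ≠ 0 := by
    intro h0
    refine hmh ?_
    rw [AlgHom.comp_apply, map_eq_zero_iff em (RingHom.injective em.toRingHom), Ideal.Quotient.mkₐ_eq_mk,
      Ideal.Quotient.eq_zero_iff_mem] at h0
    exact Ideal.mem_of_dvd _ (Finset.dvd_prod_of_mem _ (Finset.mem_univ _)) h0
  have hD := hc (⟨P, hPt⟩, primeBelow L₁.val Q) _ hac hne
  intro hmem
  refine hD (quotMap_injective L₁.val Q ?_)
  rw [quotMap_evalAt L₁.val Q, hg' ⟨P, hPt⟩, map_zero]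
  exact Ideal.Quotient.eq_zero_iff_mem.2 hmem

end Groth.Agent.GrpSpLib
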