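import Groth.Agent.GrpSpLib.Twist
import Groth.Agent.GrpSpLib.Stage
import Groth.Agent.GrpSpLib.TensorGeneric
import Groth.Agent.GrpSpLib.MaxPoints
import Groth.Agent.S10200
import Mathlib.FieldTheory.IsAlgClosed.AlgebraicClosure
/-!
A separated group algebraic space over a field is a scheme.
-/

set_option autoImplicit false
set_option linter.style.haveILetI false
set_option backward.isDefEq.respectTransparency false
set_option backward.isDefEq.respectTransparency.types false
set_option maxHeartbeats 1600000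
set_option synthInstance.maxHeartbeats 400000

universe u

open CategoryTheory CategoryTheory.Limits AlgebraicGeometry Opposite TopologicalSpace
open scoped TensorProduct

noncomputable section

namespace Groth.Agent.GrpSpLib

open _root_.AlgSp Groth.Agent.ASp Groth.Agent.ASp.FieldDesc

variable {S : Scheme.{u}}

theorem isSeparatedSp_of_mono {X Y : Sp S} (f : X ⟶ Y) [Mono f] (hY : IsSeparatedSp Y) : IsSeparatedSp X := by
  obtain ⟨b, hb, e⟩ := exists_isPullback_diag f
  have h : RepWith @IsClosedImmersion (pullback.diagonal f ≫ b) :=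
    repWith_comp (repWith_of_isIso _) (repWith_of_isPullback hb hY)
  rwa [e] at h

/-- Between a compact set and an open containing it there is a compact open. -/
theorem exists_compact_open_between {X : Scheme.{u}} {C : Set ↥X} (hC : IsCompact C) {U : X.Opens} (h : C ⊆ U) :
    ∃ V : X.Opens, IsCompact (V : Set ↥X) ∧ C ⊆ V ∧ V ≤ U := by
  classical
  choose E hE hxE hEU using fun x : C => exists_isAffineOpen_mem_and_subset (x := x.1) (U := U) (h x.2)
  obtain ⟨t, ht⟩ := hC.elim_finite_subcover (fun x => (E x : Set ↥X)) (fun x => (E x).2)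
    (fun x hx => Set.mem_iUnion.2 ⟨⟨x, hx⟩, hxE ⟨x, hx⟩⟩)
  refine ⟨⨆ x ∈ t, E x, ?_, fun x hx => ?_, iSup₂_le fun x _ => hEU x⟩
  · simp only [TopologicalSpace.Opens.coe_iSup]
    exact t.isCompact_biUnion fun x _ => (hE x).isCompact
  · obtain ⟨i, hit, hxi⟩ := Set.mem_iUnion₂.1 (ht hx)
    simp only [SetLike.mem_coe, TopologicalSpace.Opens.mem_iSup]
    exact ⟨i, hit, hxi⟩

/-- A maximal point. -/
theorem exists_maximal_point (X : Scheme.{u}) [Nonempty ↥X] : ∃ g : ↥X, ∀ v, v ⤳ g → v = g := by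
  obtain ⟨x⟩ := ‹Nonempty ↥X›
  have hc : irreducibleComponent x ∈ irreducibleComponents ↥X := irreducibleComponent_mem_irreducibleComponents x
  obtain ⟨g, hg⟩ := QuasiSober.sober hc.1 isClosed_irreducibleComponent
  refine ⟨g, fun v hv => ?_⟩
  have h1 : irreducibleComponent x ⊆ closure {v} := by
    rw [← hg.def]; exact closure_minimal (Set.singleton_subset_iff.2 hv.mem_closure) isClosed_closure
  have h2 : IsGenericPoint v (irreducibleComponent x) :=
    le_antisymm (hc.2 isIrreducible_singleton.closure h1) h1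
  exact h2.eq hg

variable {k : Type u} [Field k]
variable {G : Over ((yon (Spec (CommRingCat.of k))).obj (Over.mk (𝟙 (Spec (CommRingCat.of k)))))} [GrpObj G]

/-- Every point of a separated group space over a field has a schematic neighbourhood. -/
theorem exists_scheme_nbhd_point (hG : IsAlgSpace G.left) (hsep : IsSeparatedSp G.left)
    {U₀ : Over (Spec (CommRingCat.of k))}
    {j₀ : (yon _).obj U₀ ⟶ G.left} (hj₀ : RepWith @IsOpenImmersion j₀)
    (h₀ : ∀ x : Points G.left, HasAt (fun U u => ringKrullDim ↥(U.presheaf.stalk u) = 0) G.left x →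
      x ∈ Set.range (Points.map j₀))
    {K : Type u} [Field K] [Algebra k K] (kb : Type u) [Field kb] [Algebra k kb] [IsAlgClosed kb]
    [Algebra.IsAlgebraic k kb] [Algebra kb K] [IsScalarTower k kb K]
    (γ₀ : ext k K ⟶ U₀) {A' : Scheme.{u}} (a : (ext k K).left ⟶ A') (b : A' ⟶ U₀.left) [Flat a] [IsPreimmersion b]
    (hab : γ₀.left = a ≫ b) (hg : ∀ c v, v ⤳ b (a c) → v = b (a c)) (y : Points G.left) :
    ∃ (P : Over (Spec (CommRingCat.of k))) (f : (yon _).obj P ⟶ G.left),
      RepWith @IsOpenImmersion f ∧ y ∈ Set.range (Points.map f) := by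
  classical
  have hqs : IsQuasiSeparatedSp G.left :=
    repWith_mono (fun _ _ g (hg : IsClosedImmersion g) => (inferInstance : QuasiCompact g)) hsep
  haveI : U₀.left.IsSeparated := by
    haveI : Mono j₀ := mono_of_repWith (P := @IsOpenImmersion)
      (fun g hg => haveI : IsOpenImmersion g := hg; inferInstance) hj₀
    haveI : IsSeparated U₀.hom :=
      ⟨(repWith_diag_yon_iff @IsClosedImmersion U₀).1 (isSeparatedSp_of_mono j₀ hsep)⟩
    exact ⟨by
      rw [show terminal.from U₀.left = U₀.hom ≫ terminal.from _ from terminal.hom_ext _ _]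
      infer_instance⟩
  -- a representative of the point
  obtain ⟨U, p, hp, hps⟩ := hG.atlas
  obtain ⟨u, rfl⟩ := surjective_ofPt hps y
  let L : Type u := ↥(U.left.residueField u)
  let φ := Spec.preimage (U.left.fromSpecResidueField u ≫ U.hom)
  letI : Algebra k L := φ.hom.toAlgebra
  have hφ : Spec.map (CommRingCat.ofHom (algebraMap k L)) = U.left.fromSpecResidueField u ≫ U.hom :=
    Spec.map_preimage _
  let ι : ext k L ⟶ U := Over.homMk (U.left.fromSpecResidueField u) hφ.symm
  let ξ : (yon _).obj (ext k L) ⟶ G.left := (yon _).map ι ≫ p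
  have hξ : ∀ c, Points.ofPt ξ c = Points.ofPt p u := fun c => by
    rw [ofPt_yon_map_comp]
    exact congrArg (Points.ofPt p) (Scheme.fromSpecResidueField_apply u c)
  let γ : (yon _).obj (ext k K) ⟶ G.left := (yon _).map γ₀ ≫ j₀
  -- the maximal points of `U₀`
  let η : PrimeSpectrum (kb ⊗[k] L) → ↥(extR k (K ⊗[k] L)).left := fun P => etaPt K P
  have hηc : Continuous η := continuous_etaPt K
  have hηm : ∀ P w, w ⤳ η P → w = η P := fun P w hw =>
    etaPt_minimal P w ((PrimeSpectrum.le_iff_specializes w (η P)).2 hw)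
  choose z hzmax hz using fun P => exists_twist_maximal hG hj₀ h₀ γ₀ a b hab hg ξ (η P) (hηm P)
  let Z : Set ↥U₀.left := Points.ofPt j₀ ⁻¹' Set.range fun P => Points.ofPt (twist γ ξ) (η P)
  have hZ : IsCompact Z := isCompact_ofPt_preimage hG hj₀
    (isCompact_range ((Points.continuous_ofPt _).comp hηc)) (by
      rintro _ ⟨P, rfl⟩
      exact ⟨z P, hz P⟩)
  obtain ⟨Ω, hΩc, hΩqa, hZΩ⟩ := exists_qa_open hZ (by
    rintro w ⟨P, hP⟩
    obtain rfl : w = z P := injective_ofPt hG hj₀ (hP.symm.trans (hz P).symm)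
    exact hzmax P)
  haveI := hΩqa
  -- the translated open
  let Ωo : Over (Spec (CommRingCat.of k)) := Over.mk (Ω.ι ≫ U₀.hom)
  let jΩ : (yon _).obj Ωo ⟶ G.left := (yon _).map (Over.homMk Ω.ι rfl : Ωo ⟶ U₀) ≫ j₀
  have hjΩ : RepWith @IsOpenImmersion jΩ :=
    repWith_comp (repWith_yon_map (inferInstanceAs (IsOpenImmersion Ω.ι))) hj₀
  let τ := rightTr (G := G) γ
  let P' := prodModel Ωo (ext k K)
  let ψ : (yon _).obj P' ⟶ G.left ⨯ (yon _).obj (ext k K) := prodChart (ext k K) jΩ ≫ τ.inv
  have hψ : RepWith @IsOpenImmersion ψ := repWith_comp (repWith_comp (repWith_of_isIso _)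
    (repWith_of_isPullback (IsPullback.of_prod_fst_with_id jΩ ((yon _).obj (ext k K))) hjΩ)) (repWith_of_isIso _)
  haveI : IsAffineHom (ext k K).hom := inferInstanceAs (IsAffineHom (Spec.map _))
  haveI : Ωo.left.IsQuasiAffine := hΩqa
  haveI : IsAffineHom (pullback.fst Ωo.hom (ext k K).hom) := MorphismProperty.pullback_fst (P := @IsAffineHom) _ _ ‹_›
  haveI : P'.left.IsQuasiAffine := Scheme.IsQuasiAffine.of_isAffineHom (pullback.fst Ωo.hom (ext k K).hom)
  let q : (yon _).obj (extR k (K ⊗[k] L)) ⟶ G.left ⨯ (yon _).obj (ext k K) :=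
    prod.lift ((yon _).map (tprR k L K) ≫ ξ) ((yon _).map (tprL k L K))
  have hqτ : q ≫ τ.hom ≫ prod.fst = twist γ ξ := by
    simp only [q, τ, rightTr, prod.lift_fst, comp_mulP, comp_invP, prod.lift_snd_assoc, twist]
  have hqψ : ∀ P, ∃ o : ↥P'.left, Points.ofPt ψ o = Points.ofPt q (η P) := fun P => by
    obtain ⟨o, ho, -⟩ := exists_ofPt_prodChart jΩ (Points.map τ.hom (Points.ofPt q (η P)))
      ⟨z P, hZΩ (show z P ∈ Z from ⟨P, (hz P).symm⟩)⟩ (by
        rw [ofPt_yon_map_comp, ofPt_comp_eq_map, Function.comp_apply, ← Points.map_comp, ← Points.map_comp, hqτ]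
        exact ((hz P).trans (by rw [ofPt_comp_eq_map]; rfl)).symm)
    refine ⟨o, ?_⟩
    rw [ofPt_comp_eq_map, Function.comp_apply] at ho
    rw [ofPt_comp_eq_map, Function.comp_apply, Points.map_comp, ho, ← Points.map_comp, Iso.hom_inv_id, Points.map_id]
  -- cut down to a quasi-compact piece around the point
  obtain ⟨V, hV, hyV, hVqc⟩ := exists_qc_nbhd hG (Points.ofPt p u)
  have hj := repWith_subι G.left V hV
  have hV' := qcqs_of_openImmersion hj hqs
  have hX₁ := isAlgSpace_subSp hG hV
  let O' : P'.left.Opens := ⟨Points.ofPt (ψ ≫ prod.fst) ⁻¹' V, hV.preimage (Points.continuous_ofPt _)⟩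
  let C : Set ↥P'.left := Points.ofPt ψ ⁻¹' Set.range fun P => Points.ofPt q (η P)
  have hC : IsCompact C := isCompact_ofPt_preimage (FieldDesc.isAlgSpace_prod hG _) hψ
    (isCompact_range ((Points.continuous_ofPt _).comp hηc)) (by
      rintro _ ⟨P, rfl⟩
      exact hqψ P)
  have hCO : C ⊆ O' := by
    rintro o ⟨P, hP⟩
    show Points.ofPt (ψ ≫ prod.fst) o ∈ V
    rw [ofPt_comp_eq_map, Function.comp_apply, Points.map_comp]
    rw [show Points.map ψ (Points.schemeHomeo P' o) = Points.ofPt ψ o by rw [ofPt_comp_eq_map]; rfl, ← hP]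
    simp only []
    rw [ofPt_comp_eq_map, Function.comp_apply, ← Points.map_comp, prod.lift_fst, Points.map_comp,
      Points.map_yon_map_apply]
    change Points.map ξ (Points.schemeHomeo _ _) ∈ V
    rw [← Function.comp_apply (f := Points.map ξ), ← ofPt_comp_eq_map, hξ]
    exact hyV
  obtain ⟨O₁, hO₁c, hCO₁, hO₁le⟩ := exists_compact_open_between hC hCO
  let O : Over (Spec (CommRingCat.of k)) := Over.mk (O₁.ι ≫ P'.hom)
  haveI : CompactSpace ↥O.left := isCompact_iff_compactSpace.mp hO₁c
  haveI : O.left.IsQuasiAffine := Scheme.IsQuasiAffine.of_isImmersion O₁.ι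
  let ιO : O ⟶ P' := Over.homMk O₁.ι rfl
  obtain ⟨o₁, ho₁⟩ := exists_lift_subι G.left V ((yon _).map ιO ≫ ψ ≫ prod.fst) (fun t => by
    rw [ofPt_yon_map_comp]
    exact hO₁le t.2)
  let jO : (yon _).obj O ⟶ subSp G.left V ⨯ (yon _).obj (ext k K) :=
    prod.lift o₁ ((yon _).map ιO ≫ ψ ≫ prod.snd)
  have hjO' : jO ≫ prod.map (subι G.left V) (𝟙 _) = (yon _).map ιO ≫ ψ := by
    apply prod.hom_ext
    · simp [jO, ho₁]
    · simp [jO]
  haveI : Mono (subι G.left V) := mono_of_repWith (P := @IsOpenImmersion)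
    (fun g hg => haveI : IsOpenImmersion g := hg; inferInstance) hj
  have hjK : RepWith @IsOpenImmersion (prod.map (subι G.left V) (𝟙 ((yon _).obj (ext k K)))) :=
    repWith_of_isPullback (IsPullback.of_prod_fst_with_id (subι G.left V) ((yon _).obj (ext k K))) hj
  haveI : Mono (prod.map (subι G.left V) (𝟙 ((yon _).obj (ext k K)))) := mono_of_repWith (P := @IsOpenImmersion)
    (fun g hg => haveI : IsOpenImmersion g := hg; inferInstance) hjK
  have hιψ : RepWith @IsOpenImmersion ((yon _).map ιO ≫ ψ) :=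
    repWith_comp (repWith_yon_map (inferInstanceAs (IsOpenImmersion O₁.ι))) hψ
  have hjO : RepWith @IsOpenImmersion jO := by
    refine repWith_of_isPullback (f := (yon _).map ιO ≫ ψ) (IsPullback.of_isLimit'
      (show CommSq (𝟙 _) jO ((yon _).map ιO ≫ ψ) (prod.map (subι G.left V) (𝟙 _)) from
        ⟨by rw [Category.id_comp, hjO']⟩) ?_) hιψ
    refine PullbackCone.IsLimit.mk _ (fun s => s.fst) (fun s => Category.comp_id _) (fun s => ?_)
      (fun s m h1 _ => by rw [← h1, Category.comp_id])
    rw [← cancel_mono (prod.map (subι G.left V) (𝟙 _)), Category.assoc, hjO']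
    exact s.condition
  -- spreading out
  obtain ⟨R, hR, P, jR, qR, hPqa, hjR, hcomp⟩ := exists_qa_stage kb K hX₁ hVqc hV' O jO hjO
  haveI := hPqa
  haveI : Algebra.FiniteType kb R := R.fg_iff_finiteType.1 hR
  obtain ⟨ξ₁, hξ₁⟩ := exists_lift_subι G.left V ξ (fun t => by rw [hξ]; exact hyV)
  let qK : (yon _).obj (extR k (K ⊗[k] L)) ⟶ subSp G.left V ⨯ (yon _).obj (ext k K) :=
    prod.lift ((yon _).map (tprR k L K) ≫ ξ₁) ((yon _).map (tprL k L K))
  let q' : (yon _).obj (extR k (↥R ⊗[k] L)) ⟶ subSp G.left V ⨯ (yon _).obj (extR k R) :=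
    prod.lift ((yon _).map (tprR k L R) ≫ ξ₁) ((yon _).map (tprL k L R))
  let UR : Opens (PrimeSpectrum (↥R ⊗[k] L)) := ⟨Points.ofPt q' ⁻¹' Set.range (Points.map jR),
    ((isOpenMap_map_of_etale (repWith_etale_of_openImmersion hjR)).isOpen_range).preimage (Points.continuous_ofPt q')⟩
  let cR : ↥R ⊗[k] L →ₐ[k] K ⊗[k] L := Algebra.TensorProduct.map (R.val.restrictScalars k) (AlgHom.id k L)
  have hUR : ∀ Q : PrimeSpectrum (kb ⊗[k] L), etaPt R Q ∈ UR := fun Q => by
    have e : (extMap cR).left (η Q) = etaPt R Q :=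
      PrimeSpectrum.ext (comap_etaPt R.val Subtype.val_injective Q)
    change Points.ofPt q' (etaPt R Q) ∈ Set.range (Points.map jR)
    rw [← e, ← ofPt_yon_map_comp]
    have e1 : (yon _).map (extMap cR) ≫ q' = qK ≫ prod.map (𝟙 _) ((yon _).map (valMap kb K R)) := by
      have a1 : extMap cR ≫ tprR k L R = tprR k L K := Over.OverMorphism.ext ((Spec.map_comp _ _).symm.trans
        (congrArg Spec.map (by ext x; simp [cR])))
      have a2 : extMap cR ≫ tprL k L R = tprL k L K ≫ valMap kb K R := Over.OverMorphism.ext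
        ((Spec.map_comp _ _).symm.trans ((congrArg Spec.map (by ext x; simp [cR])).trans (Spec.map_comp _ _)))
      apply prod.hom_ext
      · simp only [q', qK, Category.assoc, prod.lift_fst, prod.map_fst, prod.lift_fst_assoc, Category.comp_id]
        rw [← Functor.map_comp_assoc, a1]
      · simp only [q', qK, Category.assoc, prod.lift_snd, prod.map_snd, prod.lift_snd_assoc]
        rw [← Functor.map_comp, ← Functor.map_comp, a2]
    rw [e1]
    obtain ⟨o, ho⟩ := hqψ Q
    have hoO : o ∈ O₁ := hCO₁ (show o ∈ C from ⟨Q, ho.symm⟩)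
    have key : Points.ofPt qK (η Q) = Points.ofPt jO ⟨o, hoO⟩ := by
      refine (isEmbedding_of_immersion (FieldDesc.isAlgSpace_prod hG _) (repWith_mono
        (fun _ _ g (hg : IsOpenImmersion g) => (inferInstance : IsImmersion g)) hjK)).1.injective ?_
      rw [Points.map_ofPt, Points.map_ofPt, hjO', ofPt_yon_map_comp]
      refine Eq.trans ?_ ho.symm
      refine congrArg (fun f => Points.ofPt f (η Q)) ?_
      apply prod.hom_ext <;> simp [qK, q, hξ₁]
    rw [← Points.map_ofPt, key, Points.map_ofPt, hcomp, ofPt_yon_map_comp]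
    rw [ofPt_comp_eq_map]
    exact ⟨_, rfl⟩
  -- specialisation
  obtain ⟨sp, hsp⟩ := exists_specialisation UR hUR
  let c : ext k kb ⟶ extR k R := extMap (sp.restrictScalars k)
  haveI : IsAffineHom c.left := inferInstanceAs (IsAffineHom (Spec.map _))
  have hc := repWith_prod_map_affine (subSp G.left V) c
  have sqa := hc.1.isPullback jR
  set Pa := hc.1.pullback jR
  haveI : IsAffineHom (hc.1.snd jR).left := hc.2 _ _ _ sqa
  haveI : Pa.left.IsQuasiAffine := Scheme.IsQuasiAffine.of_isAffineHom (hc.1.snd jR).left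
  obtain ⟨P₁, f₁, hf₁, hy₁⟩ := exists_scheme_nbhd hX₁ (Points.ofPt ξ₁ (IsLocalRing.closedPoint L)) Pa
    (hc.1.fst jR) (repWith_of_isPullback sqa.flip hjR) (fun x hx => by
      obtain ⟨m, rfl, -⟩ := exists_ofPt_prodChart ξ₁ x (IsLocalRing.closedPoint L) hx
      let e := (isPullback_tpr k L kb).flip.isoPullback
      let Q : ↥(extR k (kb ⊗[k] L)).left := e.inv m
      let ca : ↥R ⊗[k] L →ₐ[k] kb ⊗[k] L := Algebra.TensorProduct.map (sp.restrictScalars k) (AlgHom.id k L)
      have hQ : Points.ofPt q' ((extMap ca).left Q) ∈ Set.range (Points.map jR) := hsp Q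
      obtain ⟨w, hw⟩ := hQ
      let i : extR k (kb ⊗[k] L) ⟶ prodModel (ext k L) (ext k kb) := Over.homMk e.hom (by
        change e.hom ≫ pullback.fst _ _ ≫ (ext k L).hom = _
        rw [IsPullback.isoPullback_hom_fst_assoc]
        exact Over.w (tprR k L kb))
      have hi : i.left Q = m := by
        change e.hom (e.inv m) = m
        rw [← Scheme.Hom.comp_apply, Iso.inv_hom_id]; rfl
      have e2 : ((yon _).map i ≫ prodChart (ext k kb) ξ₁) ≫ prod.map (𝟙 _) ((yon _).map c) =
          (yon _).map (extMap ca) ≫ q' := by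
        have b1 : i ≫ prodπ (ext k L) (ext k kb) = tprR k L kb :=
          Over.OverMorphism.ext (IsPullback.isoPullback_hom_fst _)
        have b2 : i ≫ prodw (ext k L) (ext k kb) = tprL k L kb :=
          Over.OverMorphism.ext (IsPullback.isoPullback_hom_snd _)
        have a1 : extMap ca ≫ tprR k L R = tprR k L kb := Over.OverMorphism.ext ((Spec.map_comp _ _).symm.trans
          (congrArg Spec.map (by ext x; simp [ca])))
        have a2 : extMap ca ≫ tprL k L R = tprL k L kb ≫ c := Over.OverMorphism.ext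
          ((Spec.map_comp _ _).symm.trans ((congrArg Spec.map (by ext x; simp [ca])).trans (Spec.map_comp _ _)))
        apply prod.hom_ext
        · simp only [q', prodChart, Category.assoc, prod.lift_fst, prod.map_fst, prod.map_fst_assoc, Category.comp_id]
          rw [reassoc_of% (prodIso_hom_fst (ext k L) (ext k kb)), ← Functor.map_comp_assoc, ← Functor.map_comp_assoc,
            a1, b1]
        · simp only [q', prodChart, Category.assoc, prod.lift_snd, prod.map_snd, prod.map_snd_assoc, Category.comp_id,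
            Category.id_comp]
          rw [reassoc_of% (prodIso_hom_snd (ext k L) (ext k kb)), ← Functor.map_comp, ← Functor.map_comp,
            ← Functor.map_comp, a2, reassoc_of% b2]
      have e3 : Points.map (prod.map (𝟙 _) ((yon _).map c)) (Points.ofPt (prodChart (ext k kb) ξ₁) m) =
          Points.map jR w := by
        rw [hw, ← hi, ← ofPt_yon_map_comp, Points.map_ofPt, e2, ofPt_yon_map_comp]
      obtain ⟨v, hv, -⟩ := points_exists_of_isPullback sqa _ w e3
      exact ⟨v, hv⟩)
  refine ⟨P₁, f₁ ≫ subι G.left V, repWith_comp hf₁ hj, ?_⟩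
  obtain ⟨v, hv⟩ := hy₁
  exact ⟨v, by rw [Points.map_comp, hv, Points.map_ofPt, hξ₁, hξ]⟩

/-- A separated group algebraic space over a field is a scheme. -/
theorem isRepresentable_of_separated (hG : IsAlgSpace G.left) (hsep : IsSeparatedSp G.left) :
    G.left.obj.IsRepresentable := by
  classical
  have hqs : IsQuasiSeparatedSp G.left :=
    repWith_mono (fun _ _ g (hg : IsClosedImmersion g) => (inferInstance : QuasiCompact g)) hsep
  obtain ⟨X', j, hj, hX', hdense, h₀⟩ := S10200.result (⟨G.left, hG⟩ : Space (Spec (CommRingCat.of k)))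
    ⟨PUnit.{u+1}, fun _ => ⟨G.left, hG⟩, fun _ => 𝟙 _, ⟨fun _ => repWith_of_isIso (𝟙 G.left),
      fun x => ⟨PUnit.unit, x, Points.map_id x⟩⟩, fun _ => hqs⟩
  obtain ⟨U₀, ⟨e₀⟩⟩ := hX'
  let j₀ : (yon _).obj U₀ ⟶ G.left := (isoOfRepresentableBy e₀).hom ≫ j.hom
  have hj₀ : RepWith @IsOpenImmersion j₀ := repWith_comp (repWith_of_isIso _) hj
  obtain ⟨U, p, hp, hps⟩ := hG.atlas
  suffices h : ∀ y : Points G.left, ∃ (P : Over (Spec (CommRingCat.of k))) (f : (yon _).obj P ⟶ G.left),
      RepWith @IsOpenImmersion f ∧ y ∈ Set.range (Points.map f) by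
    choose P f hf hy using h
    obtain ⟨Y, ⟨i⟩⟩ := exists_scheme_of_openCover hG (fun u : ↥U.left => P (Points.ofPt p u))
      (fun u => f _) (fun u => hf _) (fun y => by
        obtain ⟨u, rfl⟩ := surjective_ofPt hps y
        exact ⟨u, hy _⟩)
    exact isRepresentable_of_iso_yon i
  intro y
  haveI : Nonempty ↥U₀.left := by
    by_contra hne
    haveI := not_nonempty_iff.1 hne
    obtain ⟨_, ⟨x, rfl⟩, -⟩ := hdense.exists_mem_open isOpen_univ ⟨y, trivial⟩
    obtain ⟨t, -⟩ := (Points.schemeHomeo U₀).surjective (Points.map (isoOfRepresentableBy e₀).inv x)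
    exact isEmptyElim t
  obtain ⟨g, hg⟩ := exists_maximal_point U₀.left
  let κ : Type u := ↥(U₀.left.residueField g)
  let φ := Spec.preimage (U₀.left.fromSpecResidueField g ≫ U₀.hom)
  letI : Algebra k κ := φ.hom.toAlgebra
  have hφ : Spec.map (CommRingCat.ofHom (algebraMap k κ)) = U₀.left.fromSpecResidueField g ≫ U₀.hom :=
    Spec.map_preimage _
  let K := AlgebraicClosure κ
  let kb := AlgebraicClosure k
  let em : kb →ₐ[k] K := IsAlgClosed.lift
  letI : Algebra kb K := em.toRingHom.toAlgebra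
  haveI : IsScalarTower k kb K := IsScalarTower.of_algHom em
  let a : (ext k K).left ⟶ Spec (U₀.left.residueField g) := Spec.map (CommRingCat.ofHom (algebraMap κ K))
  haveI : Flat a := flat_to_field (K := κ) (Ω := K) _
  let γ₀ : ext k K ⟶ U₀ := Over.homMk (a ≫ U₀.left.fromSpecResidueField g) (by
    rw [Category.assoc, ← hφ]
    exact (Spec.map_comp _ _).symm.trans (congrArg Spec.map
      (CommRingCat.hom_ext (IsScalarTower.algebraMap_eq k κ K).symm)))
  refine exists_scheme_nbhd_point hG hsep hj₀ (fun x hx => ?_) kb γ₀ a (U₀.left.fromSpecResidueField g) rfl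
    (fun c v hv => ?_) y
  · obtain ⟨w, hw⟩ := h₀ x hx
    exact ⟨Points.map (isoOfRepresentableBy e₀).inv w, by rw [← Points.map_comp, Iso.inv_hom_id_assoc]; exact hw⟩
  · rw [Scheme.fromSpecResidueField_apply] at hv ⊢
    exact hg v hv

end Groth.Agent.GrpSpLib
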