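import Groth.Prelude.Def_AlgSpGpd
import Groth.Agent.ASp.QSBase
import Mathlib.CategoryTheory.Monoidal.Cartesian.Grp
/-!
The group of points of a group object over the terminal sheaf.
-/

set_option autoImplicit false
set_option backward.isDefEq.respectTransparency false
set_option backward.isDefEq.respectTransparency.types false

universe u

open CategoryTheory CategoryTheory.Limits AlgebraicGeometry MonoidalCategory MonObj

noncomputable section

namespace Groth.Agent.GrpSpLib

open _root_.AlgSp Groth.Agent.ASp

variable {S : Scheme.{u}} (G : Over ((yon S).obj (Over.mk (𝟙 S)))) [GrpObj G]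

/-- A sheaf over the terminal sheaf. -/
abbrev overPt (T : Sp S) : Over ((yon S).obj (Over.mk (𝟙 S))) := Over.mk (isTerminalYonBase.from T)

/-- A map to the space of `G` as a map to `G`. -/
def pt {T : Sp S} (a : T ⟶ G.left) : overPt T ⟶ G := Over.homMk a (isTerminalYonBase.hom_ext _ _)

/-- The product of two points. -/
def mulP {T : Sp S} (a b : T ⟶ G.left) : T ⟶ G.left :=
  (pt G a * pt G b).left

/-- The inverse of a point. -/
def invP {T : Sp S} (a : T ⟶ G.left) : T ⟶ G.left :=
  (pt G a)⁻¹.left

variable {G}
variable {T T' : Sp S}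

theorem pt_left (a : overPt T ⟶ G) : pt G a.left = a := Over.OverMorphism.ext rfl

theorem comp_mulP (t : T' ⟶ T) (a b : T ⟶ G.left) : t ≫ mulP G a b = mulP G (t ≫ a) (t ≫ b) := by
  let s : overPt T' ⟶ overPt T := Over.homMk t (isTerminalYonBase.hom_ext _ _)
  exact congrArg CommaMorphism.left (MonObj.comp_mul s (pt G a) (pt G b))

theorem comp_invP (t : T' ⟶ T) (a : T ⟶ G.left) : t ≫ invP G a = invP G (t ≫ a) := by
  let s : overPt T' ⟶ overPt T := Over.homMk t (isTerminalYonBase.hom_ext _ _)
  exact congrArg CommaMorphism.left (GrpObj.comp_inv s (pt G a))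

theorem pt_mulP (a b : T ⟶ G.left) : pt G (mulP G a b) = pt G a * pt G b := Over.OverMorphism.ext rfl

theorem pt_invP (a : T ⟶ G.left) : pt G (invP G a) = (pt G a)⁻¹ := Over.OverMorphism.ext rfl

omit [GrpObj G] in
theorem eq_of_pt {a b : T ⟶ G.left} (h : pt G a = pt G b) : a = b := congrArg CommaMorphism.left h

theorem mulP_invP_cancel_right (a b : T ⟶ G.left) : mulP G (mulP G a b) (invP G b) = a :=
  eq_of_pt (by simp only [pt_mulP, pt_invP, mul_inv_cancel_right])

theorem mulP_cancel_right (a b : T ⟶ G.left) : mulP G (mulP G a (invP G b)) b = a :=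
  eq_of_pt (by simp only [pt_mulP, pt_invP, inv_mul_cancel_right])

theorem invP_mulP_cancel_left (a b : T ⟶ G.left) : mulP G (invP G (mulP G b (invP G a))) b = a :=
  eq_of_pt (by simp only [pt_mulP, pt_invP, mul_inv_rev, inv_inv, inv_mul_cancel_right])

theorem mulP_invP_cancel_left (a b : T ⟶ G.left) : mulP G b (invP G (mulP G (invP G a) b)) = a :=
  eq_of_pt (by simp only [pt_mulP, pt_invP, mul_inv_rev, inv_inv, mul_inv_cancel_left])

/-- Right translation by a point of a second space. -/
def rightTr {C : Sp S} (γ : C ⟶ G.left) : G.left ⨯ C ≅ G.left ⨯ C where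
  hom := prod.lift (mulP G prod.fst (invP G (prod.snd ≫ γ))) prod.snd
  inv := prod.lift (mulP G prod.fst (prod.snd ≫ γ)) prod.snd
  hom_inv_id := by
    apply prod.hom_ext
    · simp only [Category.assoc, prod.lift_fst, comp_mulP, Category.id_comp, prod.lift_snd_assoc, mulP_cancel_right]
    · simp
  inv_hom_id := by
    apply prod.hom_ext
    · simp only [Category.assoc, prod.lift_fst, comp_mulP, comp_invP, Category.id_comp, prod.lift_snd_assoc,
        mulP_invP_cancel_right]
    · simp

/-- Inversion followed by left translation by a point of a second space. -/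
def leftTw {C : Sp S} (ξ : C ⟶ G.left) : G.left ⨯ C ≅ G.left ⨯ C where
  hom := prod.lift (mulP G (prod.snd ≫ ξ) (invP G prod.fst)) prod.snd
  inv := prod.lift (mulP G (invP G prod.fst) (prod.snd ≫ ξ)) prod.snd
  hom_inv_id := by
    apply prod.hom_ext
    · simp only [Category.assoc, prod.lift_fst, comp_mulP, comp_invP, Category.id_comp, prod.lift_snd_assoc,
        invP_mulP_cancel_left]
    · simp
  inv_hom_id := by
    apply prod.hom_ext
    · simp only [Category.assoc, prod.lift_fst, comp_mulP, comp_invP, Category.id_comp, prod.lift_snd_assoc,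
        mulP_invP_cancel_left]
    · simp

end Groth.Agent.GrpSpLib
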