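import Groth.Agent.GrpSpLib.HomGroup
import Groth.Agent.GrpSpLib.ChartFst
import Groth.Agent.ASp.DecentDim
import Groth.Agent.ASp.ChartDim
/-!
Generic translates of a point of a group space are codimension zero points.
-/

set_option autoImplicit false
set_option linter.style.haveILetI false
set_option backward.isDefEq.respectTransparency false
set_option backward.isDefEq.respectTransparency.types false
set_option maxHeartbeats 800000

universe u

open CategoryTheory CategoryTheory.Limits AlgebraicGeometry Opposite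
open scoped TensorProduct

noncomputable section

namespace Groth.Agent.GrpSpLib

open _root_.AlgSp Groth.Agent.ASp Groth.Agent.ASp.FieldDesc

/-- Maximal points map to maximal points over a maximal point of the base, along a flat base change. -/
theorem maximal_image {A A' U W Z : Scheme.{u}} {m : Z ⟶ W} {p : Z ⟶ A} {π : W ⟶ U} {a : A ⟶ A'} {b : A' ⟶ U}
    [Flat a] [IsPreimmersion b] (sq : IsPullback m p π (a ≫ b)) {η : ↥Z} (hη : ∀ w, w ⤳ η → w = η)
    (hg : ∀ v, v ⤳ b (a (p η)) → v = b (a (p η))) : ∀ w, w ⤳ m η → w = m η := by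
  intro w hw
  let ι := pullback.fst π b
  let q := pullback.snd π b
  let l : Z ⟶ pullback π b := pullback.lift m (p ≫ a) (by rw [sq.w, Category.assoc])
  have hl : l ≫ ι = m := pullback.lift_fst _ _ _
  have sq' : IsPullback l p q a :=
    IsPullback.of_right (by rwa [hl]) (pullback.lift_snd _ _ _) (IsPullback.of_hasPullback π b)
  haveI : Flat l := MorphismProperty.of_isPullback sq'.flip (inferInstance : Flat a)
  have he : π (m η) = b (a (p η)) := by
    rw [← Scheme.Hom.comp_apply, sq.w, Scheme.Hom.comp_apply, Scheme.Hom.comp_apply]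
  have hπ : π w = b (a (p η)) := hg _ (he ▸ hw.map π.continuous)
  obtain ⟨f, hf, -⟩ := Scheme.Pullback.exists_preimage_pullback (f := π) (g := b) w (a (p η)) hπ
  change ι f = w at hf
  subst hf
  have hs : f ⤳ l η := by
    rw [← ι.isEmbedding.isInducing.specializes_iff, ← Scheme.Hom.comp_apply, hl]
    exact hw
  obtain ⟨η', hη', hl'⟩ := Flat.generalizingMap l hs
  rw [← hl', hη η' hη', ← Scheme.Hom.comp_apply, hl]

variable {S : Scheme.{u}}

theorem repWith_etale_of_openImmersion {X Y : Sp S} {j : X ⟶ Y} (hj : RepWith @IsOpenImmersion j) :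
    RepWith @Etale j :=
  repWith_mono (fun _ _ m (hm : IsOpenImmersion m) => inferInstanceAs (Etale m)) hj

theorem injective_ofPt {X : Sp S} (hX : IsAlgSpace X) {T : Over S} {j : (yon S).obj T ⟶ X}
    (hj : RepWith @IsOpenImmersion j) : Function.Injective (Points.ofPt j) := by
  rw [ofPt_comp_eq_map]
  exact (isEmbedding_of_immersion hX
    (repWith_mono (fun _ _ g (hg : IsOpenImmersion g) => (inferInstance : IsImmersion g)) hj)).1.injective.comp
    (Points.schemeHomeo T).injective

theorem isCompact_ofPt_preimage {X : Sp S} (hX : IsAlgSpace X) {T : Over S} {j : (yon S).obj T ⟶ X}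
    (hj : RepWith @IsOpenImmersion j) {A : Set (Points X)} (hA : IsCompact A) (hr : A ⊆ Set.range (Points.ofPt j)) :
    IsCompact (Points.ofPt j ⁻¹' A) := by
  have he := isEmbedding_of_immersion hX
    (repWith_mono (fun _ _ g (hg : IsOpenImmersion g) => (inferInstance : IsImmersion g)) hj)
  rw [ofPt_comp_eq_map, Set.preimage_comp, (Points.schemeHomeo T).isCompact_preimage, he.1.isCompact_iff,
    Set.image_preimage_eq_inter_range, Set.inter_eq_left.2]
  · exact hA
  · rw [ofPt_comp_eq_map] at hr
    exact hr.trans (Set.range_comp_subset_range _ _)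

variable (k : Type u) [Field k] (K L : Type u) [Field K] [Algebra k K] [Field L] [Algebra k L]

/-- The first projection of the spectrum of a tensor product. -/
abbrev tprL (R : Type u) [CommRing R] [Algebra k R] : extR k (R ⊗[k] L) ⟶ extR k R :=
  extMap (Algebra.TensorProduct.includeLeft : R →ₐ[k] R ⊗[k] L)

/-- The second projection of the spectrum of a tensor product. -/
abbrev tprR (R : Type u) [CommRing R] [Algebra k R] : extR k (R ⊗[k] L) ⟶ ext k L :=
  extMap (Algebra.TensorProduct.includeRight : L →ₐ[k] R ⊗[k] L)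

theorem isPullback_tpr (R : Type u) [CommRing R] [Algebra k R] :
    IsPullback (tprL k L R).left (tprR k L R).left (extR k R).hom (ext k L).hom :=
  isPullback_SpecMap_of_isPushout _ _ _ _ (CommRingCat.isPushout_tensorProduct k R L)

variable {k K L}
variable {G : Over ((yon (Spec (CommRingCat.of k))).obj (Over.mk (𝟙 (Spec (CommRingCat.of k)))))} [GrpObj G]

/-- The translate `ξ · γ⁻¹` over the tensor product. -/
def twist (γ : (yon _).obj (ext k K) ⟶ G.left) (ξ : (yon _).obj (ext k L) ⟶ G.left) :
    (yon _).obj (extR k (K ⊗[k] L)) ⟶ G.left :=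
  mulP G ((yon _).map (tprR k L K) ≫ ξ) (invP G ((yon _).map (tprL k L K) ≫ γ))

/-- The generic translate is a maximal point of the schematic open. -/
theorem exists_twist_maximal (hG : IsAlgSpace G.left) {U₀ : Over (Spec (CommRingCat.of k))}
    {j₀ : (yon _).obj U₀ ⟶ G.left} (hj₀ : RepWith @IsOpenImmersion j₀)
    (h₀ : ∀ x : Points G.left, HasAt (fun U u => ringKrullDim ↥(U.presheaf.stalk u) = 0) G.left x →
      x ∈ Set.range (Points.map j₀))
    (γ₀ : ext k K ⟶ U₀) {A' : Scheme.{u}} (a : (ext k K).left ⟶ A') (b : A' ⟶ U₀.left) [Flat a] [IsPreimmersion b]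
    (hab : γ₀.left = a ≫ b) (hg : ∀ c v, v ⤳ b (a c) → v = b (a c))
    (ξ : (yon _).obj (ext k L) ⟶ G.left) (η : ↥(extR k (K ⊗[k] L)).left) (hη : ∀ w, w ⤳ η → w = η) :
    ∃ z : ↥U₀.left, (∀ w, w ⤳ z → w = z) ∧
      Points.ofPt j₀ z = Points.ofPt (twist ((yon _).map γ₀ ≫ j₀) ξ) η := by
  let W := prodModel U₀ (ext k L)
  let m : extR k (K ⊗[k] L) ⟶ W := Over.homMk (pullback.lift (tprL k L K ≫ γ₀).left (tprR k L K).left
    ((Over.w (tprL k L K ≫ γ₀)).trans (Over.w (tprR k L K)).symm)) (by
      change pullback.lift _ _ _ ≫ pullback.fst _ _ ≫ U₀.hom = _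
      rw [pullback.lift_fst_assoc]
      exact Over.w (tprL k L K ≫ γ₀))
  have hm1 : m ≫ prodπ U₀ (ext k L) = tprL k L K ≫ γ₀ := Over.OverMorphism.ext (pullback.lift_fst _ _ _)
  have hm2 : m ≫ prodw U₀ (ext k L) = tprR k L K := Over.OverMorphism.ext (pullback.lift_snd _ _ _)
  have sq : IsPullback m.left (tprL k L K).left (pullback.fst U₀.hom (ext k L).hom) (a ≫ b) := by
    rw [← hab]
    refine IsPullback.of_right ?_ (pullback.lift_fst _ _ _) (IsPullback.of_hasPullback U₀.hom (ext k L).hom).flip
    change IsPullback (pullback.lift _ _ _ ≫ pullback.snd _ _) _ _ _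
    rw [pullback.lift_snd, Over.w γ₀]
    exact (isPullback_tpr k L K).flip
  have hw := maximal_image sq hη (hg _)
  let aW := prodChart (ext k L) j₀
  let τ := leftTw (G := G) ξ
  have haW : RepWith @Etale aW := repWith_comp (repWith_of_isIso _) (repWith_of_isPullback
    (IsPullback.of_prod_fst_with_id j₀ ((yon _).obj (ext k L))) (repWith_etale_of_openImmersion hj₀))
  have hs : twist ((yon _).map γ₀ ≫ j₀) ξ = (yon _).map m ≫ aW ≫ τ.hom ≫ prod.fst := by
    have e1 : (yon _).map m ≫ aW ≫ prod.fst = (yon _).map (tprL k L K) ≫ (yon _).map γ₀ ≫ j₀ := by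
      rw [← Functor.map_comp_assoc, ← hm1, Functor.map_comp_assoc, ← prodIso_hom_fst]
      simp [aW, prodChart]
    have e2 : (yon _).map m ≫ aW ≫ prod.snd = (yon _).map (tprR k L K) := by
      rw [← hm2, Functor.map_comp, ← prodIso_hom_snd]
      simp [aW, prodChart]
    simp only [τ, leftTw, prod.lift_fst, comp_mulP, comp_invP, twist]
    rw [e1, reassoc_of% e2]
  obtain ⟨U, p, hp, hps⟩ := hG.atlas
  let x : Points (G.left ⨯ (yon _).obj (ext k L)) := Points.map τ.hom (Points.ofPt aW (m.left η))
  obtain ⟨u, hu⟩ := surjective_ofPt hps (Points.map prod.fst x)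
  obtain ⟨r, hr, rfl⟩ := exists_ofPt_prodChart p x u hu.symm
  have hb : RepWith @Etale (prodChart (ext k L) p ≫ τ.inv) := repWith_comp (repWith_comp (repWith_of_isIso _)
    (repWith_of_isPullback (IsPullback.of_prod_fst_with_id p ((yon _).obj (ext k L))) hp)) (repWith_of_isIso _)
  have e : Points.ofPt (prodChart (ext k L) p ≫ τ.inv) r = Points.ofPt aW (m.left η) := by
    rw [ofPt_comp_eq_map, Function.comp_apply, Points.map_comp]
    rw [ofPt_comp_eq_map, Function.comp_apply] at hr
    rw [hr, ← Points.map_comp, Iso.hom_inv_id, Points.map_id]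
  have hr0 : ∀ w, w ⤳ r → w = r := fun w => eq_of_ringKrullDim_stalk_eq_zero
    ((ringKrullDim_stalk_eq_of_charts hb haW e).trans (ringKrullDim_stalk_eq_zero hw))
  haveI : Flat (ext k L).hom := flat_to_field _
  haveI : Flat (prodπ U (ext k L)).left := inferInstanceAs (Flat (pullback.fst _ _))
  have hu0 : ∀ v, v ⤳ (prodπ U (ext k L)).left r → v = (prodπ U (ext k L)).left r := fun v hv => by
    obtain ⟨r', hr', rfl⟩ := Flat.generalizingMap (prodπ U (ext k L)).left hv
    rw [hr0 r' hr']
  obtain ⟨z, hz⟩ := h₀ (Points.map prod.fst x) ⟨U, p, _, hp, hu, ringKrullDim_stalk_eq_zero hu0⟩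
  obtain ⟨z, rfl⟩ := (Points.schemeHomeo U₀).surjective z
  have hz' : Points.ofPt j₀ z = Points.map prod.fst x := by
    rw [ofPt_comp_eq_map]; exact hz
  refine ⟨z, fun w => eq_of_ringKrullDim_stalk_eq_zero ?_, ?_⟩
  · exact (ringKrullDim_stalk_eq_of_charts (repWith_etale_of_openImmersion hj₀) hp (hz'.trans hu.symm)).trans
      (ringKrullDim_stalk_eq_zero hu0)
  · rw [hz', hs, ofPt_yon_map_comp]
    simp only [x, ofPt_comp_eq_map, Function.comp_apply, ← Points.map_comp, Category.assoc]
    rfl

end Groth.Agent.GrpSpLib
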